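import Mathlib
import Cfsg.Agent.PLocal.AmbSyl
import Cfsg.Agent.Grp.MinNormal

/-! Camina–Herzog: if every 2-element is 2-central then the Sylow 2-subgroups are abelian. -/

set_option autoImplicit false

namespace Cfsg.Agent.Inv.TwoCentral

open Subgroup Cfsg.Agent.PLocal.Amb

universe u

variable {G : Type u} [Group G]

/-- every 2-element is 2-central -/
def Hyp (G : Type u) [Group G] : Prop :=
  ∀ x : G, (∃ k : ℕ, x ^ 2 ^ k = 1) → ∃ S : Subgroup G, IsSyl 2 S ⊤ ∧ S ≤ centralizer {x}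

/-- squares of central elements -/
def W (S : Subgroup G) : Subgroup G where
  carrier := {w | ∃ y ∈ S ⊓ 𝐂[S], y ^ 2 = w}
  one_mem' := ⟨1, one_mem _, by simp⟩
  mul_mem' := by
    rintro _ _ ⟨a, ha, rfl⟩ ⟨b, hb, rfl⟩
    exact ⟨a * b, mul_mem ha hb, (Commute.mul_pow (hb.2 a ha.1) 2)⟩
  inv_mem' := by
    rintro _ ⟨a, ha, rfl⟩
    exact ⟨a⁻¹, inv_mem ha, by simp⟩

theorem W_le (S : Subgroup G) : W S ≤ S ⊓ 𝐂[S] := by
  rintro _ ⟨a, ha, rfl⟩; exact pow_mem ha 2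

theorem le_cent_W (S : Subgroup G) : S ≤ 𝐂[W S] :=
  le_centralizer_iff.1 ((W_le S).trans inf_le_right)

theorem W_cj (g : G) (S : Subgroup G) : W cj(g, S) = cj(g, W S) := by
  ext w
  rw [mem_cj]
  constructor
  · rintro ⟨y, hy, rfl⟩
    rw [centralizer_cj, ← cj_inf, mem_cj] at hy
    exact ⟨_, hy, by simp [pow_two, mul_assoc]⟩
  · rintro ⟨y, hy, h⟩
    refine ⟨g * y * g⁻¹, by rw [centralizer_cj, ← cj_inf]; exact conj_mem_cj g hy, ?_⟩
    rw [conj_pow, h]; group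

variable [Finite G]

instance : Fact (Nat.Prime 2) := ⟨Nat.prime_two⟩

theorem mem_of_norm {K S : Subgroup G} (hS : IsSyl 2 S ⊤) (hK : S ≤ K) {a : G}
    (ha : ∃ k : ℕ, a ^ 2 ^ k = 1) (hn : a ∈ 𝐍[K]) : a ∈ K := by
  obtain ⟨g, hg, h⟩ := (hS.mono (hK.trans le_normalizer) le_top).exists_le_cj
    (isPGroup_zpowers ha) (zpowers_le.2 hn)
  have := (h.trans (cj_mono g hK)) (mem_zpowers a)
  rwa [cj_of_mem_normalizer hg] at this

theorem W_eq_of_cent {S T : Subgroup G} (hS : IsSyl 2 S ⊤) (hT : IsSyl 2 T 𝐂[W S]) :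
    IsSyl 2 T ⊤ ∧ W T = W S := by
  obtain ⟨g, hg, rfl⟩ := hT.exists_cj_eq (hS.mono (le_cent_W S) le_top)
  exact ⟨hS.cj_of_mem (mem_top g), by
    rw [W_cj, cj_of_mem_normalizer (centralizer_le_normalizer' _ hg)]⟩

theorem W_weak (h : Hyp G) {S T : Subgroup G} (hS : IsSyl 2 S ⊤) (hT : IsSyl 2 T ⊤)
    (hle : W S ≤ T) : W S = W T := by
  obtain ⟨P, hP⟩ := exists_isSyl 2 (𝐂[W T] ⊓ 𝐂[W S])
  obtain ⟨T', hT', hPT⟩ := exists_isSyl_ge hP.pgrp (hP.le.trans inf_le_left)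
  obtain ⟨S', hS', hPS⟩ := exists_isSyl_ge hP.pgrp (hP.le.trans inf_le_right)
  obtain ⟨hT1, hT2⟩ := W_eq_of_cent hT hT'
  obtain ⟨hS1, hS2⟩ := W_eq_of_cent hS hS'
  have hWP : W S ≤ P := hP.le_of_le_normalizer (hS.pgrp.to_le ((W_le S).trans inf_le_left))
    (le_inf (hle.trans (le_cent_W T)) (((W_le S).trans inf_le_left).trans (le_cent_W S)))
    ((hP.le.trans inf_le_right).trans (centralizer_le_normalizer' _))
  have hZC : T' ⊓ 𝐂[T'] ≤ 𝐂[P] := inf_le_right.trans (centralizer_anti hPT)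
  have hZP : T' ⊓ 𝐂[T'] ≤ P := hP.le_of_normalizes (hT'.pgrp.to_le inf_le_left)
    (le_inf (inf_le_left.trans hT'.le) (hZC.trans (centralizer_anti hWP)))
    (hZC.trans (centralizer_le_normalizer' _))
  by_cases hE : P = S'
  · have : T' = S' := hS1.eq hT1.pgrp (hE ▸ hPT) le_top
    rw [← hS2, ← hT2, this]
  exfalso
  obtain ⟨s0, hs0, hs0P⟩ := SetLike.exists_of_lt (lt_inf_normalizer hS'.pgrp (lt_of_le_of_ne hPS hE))
  obtain ⟨k, hk⟩ := isPGroup_iff.1 hS'.pgrp s0 hs0.1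
  have hex : ∃ j, s0 ^ 2 ^ j ∈ P := ⟨k, hk ▸ one_mem _⟩
  classical
  have hj0 : Nat.find hex ≠ 0 := fun h0 => hs0P (by simpa [h0] using Nat.find_spec hex)
  obtain ⟨j, hj⟩ := Nat.exists_eq_succ_of_ne_zero hj0
  set s := s0 ^ 2 ^ j with hs
  have hsP : s ∉ P := Nat.find_min hex (by omega)
  have hs2 : s * s ∈ P := by
    have := Nat.find_spec hex
    rwa [hj, Nat.succ_eq_add_one, pow_succ, pow_mul, pow_two] at this
  have hsS : s ∈ S' := pow_mem hs0.1 _
  have hsN : s ∈ 𝐍[P] := pow_mem hs0.2 _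
  have hs2e := isPGroup_iff.1 hS'.pgrp s hsS
  apply hsP
  refine zpowers_le.1 (hP.le_of_normalizes (isPGroup_zpowers hs2e)
    (zpowers_le.2 ⟨?_, hS'.le hsS⟩) (zpowers_le.2 hsN))
  rw [← hT2]
  rintro _ ⟨y, hy, rfl⟩
  have hyP := hZP hy
  have hy' : s * y * s⁻¹ ∈ P := conj_mem_of_mem_normalizer hsN hyP
  have c1 : (s * y * s⁻¹) * y = y * (s * y * s⁻¹) := hZC hy _ hy'
  have c2 : (s * s) * y = y * (s * s) := hZC hy _ hs2
  set u := y⁻¹ * (s * y * s⁻¹) with hu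
  have huP : u ∈ P := mul_mem (inv_mem hyP) hy'
  have hinv : s * u * s⁻¹ = u⁻¹ := by
    have : s * u * s⁻¹ = (s * y * s⁻¹)⁻¹ * ((s * s) * y * (s * s)⁻¹) := by rw [hu]; group
    rw [this, c2, hu]; group
  obtain ⟨R, hR, hRu⟩ := h u (isPGroup_iff.1 hP.pgrp u huP)
  have hsu : s ∈ centralizer ({u} : Set G) := by
    refine mem_of_norm hR hRu hs2e (cj_eq_iff.1 ?_)
    rw [← centralizer_singleton_conj, hinv]
    ext x
    simp only [mem_centralizer_singleton_iff]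
    exact ⟨fun hx => Commute.inv_right_iff.1 hx, fun hx => Commute.inv_right_iff.2 hx⟩
  have hsu' : s * u = u * s := mem_centralizer_singleton_iff.1 hsu
  have hu2 : u * u = 1 := by
    have : u = u⁻¹ := by rw [← hinv, hsu']; group
    nth_rewrite 2 [this]; simp
  have c1' : Commute y⁻¹ (s * y * s⁻¹) := (Commute.inv_left_iff).2 c1.symm
  have h3 : (y⁻¹) ^ 2 * (s * y * s⁻¹) ^ 2 = 1 := by rw [← c1'.mul_pow, pow_two, ← hu, hu2]
  rw [conj_pow, inv_pow, inv_mul_eq_one] at h3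
  show y ^ 2 * s = s * y ^ 2
  nth_rewrite 1 [h3]; group

theorem aux (n : ℕ) : ∀ (G : Type u) [Group G] [Finite G], Nat.card G = n → Hyp G →
    ∀ S : Subgroup G, IsSyl 2 S ⊤ → ∀ a ∈ S, ∀ b ∈ S, a * b = b * a := by
  induction n using Nat.strong_induction_on with
  | _ n ih =>
  intro G _ _ hn h S hS a ha b hb
  by_cases hW : W S = ⊥
  · have hsq : ∀ x ∈ S, x * x = 1 := by
      intro x hx
      have hx2 := isPGroup_iff.1 hS.pgrp x hx
      obtain ⟨R, hR, hRx⟩ := h x hx2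
      obtain ⟨g, -, rfl⟩ := hR.exists_cj_eq hS
      have h1 : x ∈ 𝐂[cj(g, S)] := fun y hy => mem_centralizer_singleton_iff.1 (hRx hy)
      have h2 : x ∈ cj(g, S) := zpowers_le.1 (hR.le_of_normalizes (isPGroup_zpowers hx2) le_top
        (zpowers_le.2 (centralizer_le_normalizer' _ h1)))
      have h3 : x ^ 2 ∈ W cj(g, S) := ⟨x, ⟨h2, h1⟩, rfl⟩
      rw [W_cj, hW, cj_bot, mem_bot, pow_two] at h3
      exact h3
    have i1 : ∀ x ∈ S, x⁻¹ = x := fun x hx => inv_eq_of_mul_eq_one_right (hsq x hx)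
    rw [← i1 _ (mul_mem ha hb), mul_inv_rev, i1 a ha, i1 b hb]
  have hWp : IsPGroup 2 (W S) := hS.pgrp.to_le ((W_le S).trans inf_le_left)
  by_cases hC : 𝐂[W S] = ⊤
  · have hcen : ∀ w ∈ W S, ∀ g : G, w * g = g * w := fun w hw g =>
      (hC ▸ mem_top g : g ∈ 𝐂[W S]) w hw
    have hN : (W S).Normal := ⟨fun w hw g => by rw [← hcen w hw g]; simpa using hw⟩
    have hQ : Hyp (G ⧸ W S) := by
      intro y ⟨k, hk⟩
      obtain ⟨x, rfl⟩ := QuotientGroup.mk_surjective y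
      have h1 : x ^ 2 ^ k ∈ W S := (QuotientGroup.eq_one_iff _).1 (by simpa using hk)
      obtain ⟨l, hl⟩ := isPGroup_iff.1 hWp _ h1
      obtain ⟨R, hR, hRx⟩ := h x ⟨k + l, by rw [pow_add, pow_mul, hl]⟩
      have := hR.map (QuotientGroup.mk' (W S))
      rw [map_top_of_surjective _ (QuotientGroup.mk'_surjective _)] at this
      refine ⟨_, this, ?_⟩
      rintro _ ⟨r, hr, rfl⟩
      rw [mem_centralizer_singleton_iff]
      exact congrArg (QuotientGroup.mk' (W S)) (mem_centralizer_singleton_iff.1 (hRx hr))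
    have hSq := hS.map (QuotientGroup.mk' (W S))
    rw [map_top_of_surjective _ (QuotientGroup.mk'_surjective _)] at hSq
    have h1 := ih _ (hn ▸ Grp.card_quotient_lt (W S) hW) (G ⧸ W S) rfl hQ _ hSq
      _ (mem_map_of_mem _ ha) _ (mem_map_of_mem _ hb)
    have h2 : b⁻¹ * (a * b * a⁻¹) ∈ W S := by
      rw [← QuotientGroup.eq]
      simp only [QuotientGroup.mk'_apply] at h1
      simp [h1]
    obtain ⟨R, hR, hRb⟩ := h b (isPGroup_iff.1 hS.pgrp b hb)
    have h3 : a ∈ centralizer ({b} : Set G) := by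
      refine mem_of_norm hR hRb (isPGroup_iff.1 hS.pgrp a ha) (cj_eq_iff.1 ?_)
      rw [← centralizer_singleton_conj]
      have e : a * b * a⁻¹ = b * (b⁻¹ * (a * b * a⁻¹)) := by group
      rw [e]
      ext x
      simp only [mem_centralizer_singleton_iff]
      have c : Commute x (b⁻¹ * (a * b * a⁻¹)) := (hcen _ h2 x).symm
      constructor
      · intro hx
        have := (Commute.mul_right (show Commute x _ from hx) c.inv_right)
        rwa [mul_inv_cancel_right] at this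
      · intro hx
        exact Commute.mul_right (show Commute x b from hx) c
    exact mem_centralizer_singleton_iff.1 h3
  · set H := 𝐂[W S] with hH
    have hsub : ∀ R : Subgroup G, IsSyl 2 R ⊤ → R ≤ H → IsSyl 2 (R.subgroupOf H) ⊤ := by
      intro R hR hRH
      obtain ⟨P, hP⟩ := (hR.mono hRH le_top).exists_sylow
      rw [← hP]; exact isSyl_top P
    have hQ : Hyp H := by
      intro x ⟨k, hk⟩
      obtain ⟨R, hR, hRx⟩ := h x ⟨k, by simpa using congrArg Subtype.val hk⟩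
      obtain ⟨R', hR', hWR⟩ := exists_isSyl_ge (L := centralizer {(x : G)}) hWp
        (fun w hw => mem_centralizer_singleton_iff.2 (x.2 w hw))
      have hR1 := hR'.of_le_of_isSyl le_top hR hRx
      have hRH : R' ≤ H := by rw [hH, W_weak h hS hR1 hWR]; exact le_cent_W _
      refine ⟨_, hsub _ hR1 hRH, fun r hr => ?_⟩
      rw [mem_centralizer_singleton_iff]
      exact Subtype.ext (mem_centralizer_singleton_iff.1 (hR'.le hr))
    have := ih _ (hn ▸ Grp.card_lt_of_ne_top hC) H rfl hQ _ (hsub S hS (le_cent_W S))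
      ⟨a, le_cent_W S ha⟩ ha ⟨b, le_cent_W S hb⟩ hb
    exact congrArg Subtype.val this

theorem comm (h : Hyp G) (P : Sylow 2 G) : IsMulCommutative (P : Subgroup G) :=
  ⟨⟨fun a b => Subtype.ext (aux _ G rfl h P (isSyl_top P) a a.2 b b.2)⟩⟩

end Cfsg.Agent.Inv.TwoCentral
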