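import Mathlib
import Cfsg.Agent.Inv.CZ4Base

/-! An involution acting on a perfect group whose Sylow `2`-subgroup has a cyclic subgroup of
index two. -/

set_option autoImplicit false
set_option linter.unusedSectionVars false
set_option linter.unnecessarySimpa false

namespace Cfsg.Agent.Inv.CZ4

open Subgroup Cfsg.Agent.PLocal.Amb Cfsg.Agent.Inv

variable {G : Type*} [Group G] [Finite G]

theorem cyc_uniq {r x y : G} (hx : x ∈ zpowers r) (hy : y ∈ zpowers r) (hx2 : x * x = 1)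
    (hy2 : y * y = 1) (hy1 : y ≠ 1) : x = 1 ∨ x = y := by
  by_cases h : x = 1
  · exact Or.inl h
  · exact Or.inr (eq_of_orderOf_two_of_mem_cyclic (H := zpowers r) inferInstance hx hy
      (orderOf_two_of_mul_self hx2 h) (orderOf_two_of_mul_self hy2 hy1))

theorem cyc_comm {r x y : G} (hx : x ∈ zpowers r) (hy : y ∈ zpowers r) : x * y = y * x :=
  (Grp.PChain.commute_of_mem (A := zpowers r) inferInstance hx hy).eq

theorem cyc_four {r w z x : G} (hw : w ∈ zpowers r) (ww : w * w = z) (zz : z * z = 1) (z1 : z ≠ 1)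
    (hx : x ∈ zpowers r) (h4 : x * x * (x * x) = 1) : x = 1 ∨ x = z ∨ x = w ∨ x = w⁻¹ := by
  have hz : z ∈ zpowers r := ww ▸ mul_mem hw hw
  rcases cyc_uniq (mul_mem hx hx) hz h4 zz z1 with h | h
  · rcases cyc_uniq hx hz h zz z1 with h | h
    · exact Or.inl h
    · exact Or.inr (Or.inl h)
  · have h1 : x * w * (x * w) = 1 := by
      calc x * w * (x * w) = x * (w * x) * w := by group
        _ = x * x * (w * w) := by rw [cyc_comm hw hx]; group
        _ = 1 := by rw [h, ww, zz]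
    rcases cyc_uniq (mul_mem hx hw) hz h1 zz z1 with h | h
    · exact Or.inr (Or.inr (Or.inr (eq_inv_of_mul_eq_one_left h)))
    · exact Or.inr (Or.inr (Or.inl (mul_right_cancel (h.trans ww.symm))))

theorem exists_pow_four {b : G} {n : ℕ} (hb : b ^ 2 ^ n = 1) (h2 : b * b ≠ 1) :
    ∃ k : ℕ, b ^ k * b ^ k ≠ 1 ∧ b ^ k * b ^ k * (b ^ k * b ^ k) = 1 := by
  obtain ⟨k, -, hk⟩ := (Nat.dvd_prime_pow Nat.prime_two).1 (orderOf_dvd_of_pow_eq_one hb)
  rcases k with _ | _ | k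
  · exact absurd (by rw [orderOf_eq_one_iff.1 (show orderOf b = 1 by simpa using hk), mul_one]) h2
  · exact absurd (mul_self_of_orderOf_two (by simpa using hk)) h2
  · refine ⟨2 ^ k, fun e1 => ?_, ?_⟩
    · rw [← pow_add, ← two_mul, ← pow_succ'] at e1
      have e2 := orderOf_dvd_of_pow_eq_one e1
      rw [hk, Nat.pow_dvd_pow_iff_le_right (by norm_num)] at e2
      omega
    · rw [← pow_add, ← pow_add, show 2 ^ k + 2 ^ k + (2 ^ k + 2 ^ k) = 2 ^ (k + 1 + 1) by ring, ← hk,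
        pow_orderOf_eq_one]

structure Cy (T S : Subgroup G) (r w z : G) : Prop where
  pg : IsPGroup 2 T
  le : S ≤ T
  rS : r ∈ S
  nr : T ≤ 𝐍[zpowers r]
  wC : w ∈ zpowers r
  ww : w * w = z
  zz : z * z = 1
  z1 : z ≠ 1
  inv : ∀ g ∈ S, g ∉ zpowers r → g * w * g⁻¹ = w⁻¹

namespace Cy

variable {T S : Subgroup G} {r w z : G} (c : Cy T S r w z)
include c

theorem zC : z ∈ zpowers r := c.ww ▸ mul_mem c.wC c.wC

theorem CS : zpowers r ≤ S := zpowers_le.2 c.rS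

theorem uniq {x : G} (hx : x ∈ zpowers r) (h : x * x = 1) : x = 1 ∨ x = z :=
  cyc_uniq hx c.zC h c.zz c.z1

theorem cj {g x : G} (hg : g ∈ T) (hx : x ∈ zpowers r) : g * x * g⁻¹ ∈ zpowers r :=
  conj_mem_of_mem_normalizer (c.nr hg) hx

theorem cj' {g x : G} (hg : g ∈ T) (hx : g * x * g⁻¹ ∈ zpowers r) : x ∈ zpowers r := by
  simpa [mul_assoc] using c.cj (inv_mem hg) hx

theorem zc {g : G} (hg : g ∈ T) : g * z = z * g := by
  rcases c.uniq (c.cj hg c.zC) (by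
    calc g * z * g⁻¹ * (g * z * g⁻¹) = g * (z * z) * g⁻¹ := by group
      _ = 1 := by rw [c.zz]; group) with h | h
  · exact absurd (conj_eq_one_iff.1 h) c.z1
  · exact mul_inv_eq_iff_eq_mul.1 h

theorem wi : w⁻¹ = w * z := by
  rw [← c.ww, inv_eq_iff_mul_eq_one, ← c.zz, ← c.ww]; group

theorem w_ne : w ≠ w⁻¹ := fun h => c.z1 (by rw [← c.ww, ← mul_inv_cancel w, ← h])

theorem wc {g : G} (hg : g ∈ T) : g * w * g⁻¹ = w ∨ g * w * g⁻¹ = w⁻¹ := by
  have e : g * w * g⁻¹ * (g * w * g⁻¹) = z := by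
    calc _ = g * (w * w) * g⁻¹ := by group
      _ = z := by rw [c.ww, c.zc hg]; group
  rcases cyc_four c.wC c.ww c.zz c.z1 (c.cj hg c.wC) (by rw [e, c.zz]) with h | h | h
  · rw [h, one_mul] at e; exact absurd e.symm c.z1
  · rw [h, c.zz] at e; exact absurd e.symm c.z1
  · exact h

theorem mem_of {g : G} (hg : g ∈ S) (h : g * w * g⁻¹ = w) : g ∈ zpowers r := by
  by_contra h1
  exact c.w_ne (h.symm.trans (c.inv g hg h1))

theorem ix : Ix (zpowers r) S := fun a ha b hb h1 h2 => c.mem_of (mul_mem ha hb) (by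
  calc a * b * w * (a * b)⁻¹ = a * (b * w * b⁻¹) * a⁻¹ := by group
    _ = (a * w * a⁻¹)⁻¹ := by rw [c.inv b hb h2]; group
    _ = w := by rw [c.inv a ha h1, inv_inv])

theorem small {g x : G} (hg : g * w * g⁻¹ = w) (hx : x ∈ zpowers r) (h : g * x * g⁻¹ = x⁻¹) :
    x = 1 ∨ x = z := by
  refine c.uniq hx ?_
  by_contra h2
  obtain ⟨n, hn⟩ := isPGroup_iff.1 c.pg x (c.le (c.CS hx))
  obtain ⟨k, h3, h4⟩ := exists_pow_four hn h2
  have h5 := conj_pow_eq_inv h k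
  rcases cyc_four c.wC c.ww c.zz c.z1 (pow_mem hx k) h4 with e | e | e | e <;> rw [e] at h3 h5
  · exact h3 (one_mul 1)
  · exact h3 c.zz
  · exact c.w_ne (hg.symm.trans h5)
  · apply c.w_ne
    rw [inv_inv] at h5
    calc w = g * w⁻¹ * g⁻¹ := h5.symm
      _ = (g * w * g⁻¹)⁻¹ := by group
      _ = w⁻¹ := by rw [hg]

theorem mono {T' : Subgroup G} (h1 : S ≤ T') (h2 : T' ≤ T) : Cy T' S r w z :=
  ⟨c.pg.to_le h2, h1, c.rS, h2.trans c.nr, c.wC, c.ww, c.zz, c.z1, c.inv⟩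

end Cy

theorem exists_cy {P S : Subgroup G} (hP : IsPGroup 2 P) (hSP : S ≤ P) (hn : P ≤ 𝐍[S])
    (h : ∀ U : Subgroup G, P ≤ 𝐍[U] → U ≤ S → ¬ IsKleinFour U) (hq : ¬ Uq S) :
    ∃ r w z, Cy P S r w z ∧ ∃ s ∈ S, s * s = 1 ∧ s ∉ zpowers r := by
  obtain ⟨r, hr, h1, h2⟩ := rel_cyc_amb hP hSP hn h
  obtain ⟨s, hs, hs2, hsC⟩ : ∃ s ∈ S, s * s = 1 ∧ s ∉ zpowers r := by
    by_contra hc
    push Not at hc
    exact hq fun a ha b hb ha2 hb2 _ ha1 hb1 =>
      (cyc_uniq (hc a ha ha2) (hc b hb hb2) ha2 hb2 hb1).resolve_left ha1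
  obtain ⟨w, hw, hw4, hws⟩ : ∃ w ∈ zpowers r, w ^ 4 = 1 ∧ w * s ≠ s * w := by
    by_contra hc
    push Not at hc
    exact hsC (h2 s hs hc)
  have zz : w * w * (w * w) = 1 := by rw [← hw4]; simp [pow_succ, mul_assoc]
  have z1 : w * w ≠ 1 := fun e => by
    have h1' : w ≠ 1 := by rintro rfl; exact hws (by simp)
    rcases cyc_uniq (conj_mem_of_mem_normalizer (h1 (hSP hs)) hw) hw (by
      calc s * w * s⁻¹ * (s * w * s⁻¹) = s * (w * w) * s⁻¹ := by group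
        _ = 1 := by rw [e]; group) e h1' with h3 | h3
    · exact h1' (conj_eq_one_iff.1 h3)
    · exact hws (mul_inv_eq_iff_eq_mul.1 h3).symm
  have hzc : ∀ g ∈ P, g * (w * w) * g⁻¹ = w * w := fun g hg =>
    (cyc_uniq (conj_mem_of_mem_normalizer (h1 hg) (mul_mem hw hw)) (mul_mem hw hw) (by
      calc _ = g * (w * w * (w * w)) * g⁻¹ := by group
        _ = 1 := by rw [zz]; group) zz z1).resolve_left (by rwa [conj_eq_one_iff])
  refine ⟨r, w, w * w, ⟨hP, hSP, hr, h1, hw, rfl, zz, z1, fun g hg hgC => ?_⟩, s, hs, hs2, hsC⟩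
  have e : g * w * g⁻¹ * (g * w * g⁻¹) = w * w := by
    rw [← hzc g (hSP hg)]; group
  rcases cyc_four hw rfl zz z1 (conj_mem_of_mem_normalizer (h1 (hSP hg)) hw) (by rw [e, zz])
    with h3 | h3 | h3 | h3
  · rw [h3, one_mul] at e; exact absurd e.symm z1
  · rw [h3, zz] at e; exact absurd e.symm z1
  · exfalso
    have h4 : Commute w g := (mul_inv_eq_iff_eq_mul.1 h3).symm
    refine hgC (h2 g hg fun x hx hx4 => ?_)
    rcases cyc_four hw rfl zz z1 hx (by rw [← hx4]; simp [pow_succ, mul_assoc])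
      with rfl | rfl | rfl | rfl
    · simp
    · exact (h4.mul_left h4).eq
    · exact h4.eq
    · exact h4.inv_left.eq
  · exact h3

structure St (A L T : Subgroup G) (t : G) : Prop where
  perf : ⁅A, A⁆ = A
  AL : A ≤ L
  nA : L ≤ 𝐍[A]
  syl : IsSyl 2 T L
  tT : t ∈ T
  tt : t * t = 1
  cas : ∀ g ∈ L, g ∈ A ∨ g * t ∈ A
  uq : Uq (A ⊓ centralizer {t})

namespace St

variable {A L T : Subgroup G} {t : G} (h : St A L T t)
include h

theorem ti : t⁻¹ = t := inv_eq_of_mul_eq_one_right h.tt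

theorem cjS {g x : G} (hg : g ∈ T) (hx : x ∈ T ⊓ A) : g * x * g⁻¹ ∈ T ⊓ A :=
  ⟨T.mul_mem (T.mul_mem hg hx.1) (T.inv_mem hg), conj_mem_of_mem_normalizer (h.nA (h.syl.le hg)) hx.2⟩

theorem sylS : IsSyl 2 (T ⊓ A) A :=
  haveI : Fact (Nat.Prime 2) := ⟨Nat.prime_two⟩
  h.syl.inf_of_le h.AL h.nA

theorem sq {M : Subgroup G} (hi : Ix M (T ⊓ A)) (hn : t ∈ 𝐍[M]) {g : G} (hg : g ∈ T) :
    g * g ∈ M := by
  rcases h.cas g (h.syl.le hg) with h1 | h1
  · exact hi.sq ⟨hg, h1⟩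
  · have h2 : g * t ∈ T ⊓ A := ⟨T.mul_mem hg h.tT, h1⟩
    have e : g * g = g * t * (t * (g * t) * t⁻¹) := by
      calc g * g = g * (t * t) * g := by rw [h.tt]; group
        _ = _ := by group
    rw [e]
    by_cases h3 : g * t ∈ M
    · exact mul_mem h3 (conj_mem_of_mem_normalizer hn h3)
    · exact hi _ h2 _ (h.cjS h.tT h2) h3 fun h4 => h3 ((mem_normalizer_iff.1 hn _).2 h4)

theorem lemY' {M : Subgroup G} (hM : M ≤ T ⊓ A) (hi : Ix M (T ⊓ A)) (hn : t ∈ 𝐍[M]) {z s y : G}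
    (hz : ∀ g ∈ T, g * z = z * g) (hzM : z ∈ M) (hu : ∀ w ∈ M, w * w = 1 → w = 1 ∨ w = z)
    (hs : s ∈ A) (hsM : s ∉ M) (hs2 : s * s = 1) (hy : y ∈ T)
    (hys : y * s = s * y) (hyy : y * y = z) : False :=
  lemY h.perf h.AL h.nA h.syl hM hi hz hzM hu (fun _ hg => h.sq hi hn hg) hs hsM hs2 hy hys hyy

theorem lemY'' {M : Subgroup G} (hM : M ≤ T ⊓ A) (hi : Ix M (T ⊓ A)) {z s y : G}
    (hz : ∀ g ∈ T, g * z = z * g) (hzM : z ∈ M) (hu : ∀ w ∈ M, w * w = 1 → w = 1 ∨ w = z)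
    (hs : s ∈ A) (hsM : s ∉ M) (hs2 : s * s = 1) (hy : y ∈ T ⊓ A)
    (hys : y * s = s * y) (hyy : y * y = z) : False :=
  lemY h.perf le_rfl le_normalizer h.sylS (le_inf hM (hM.trans inf_le_right))
    (by rwa [inf_assoc, inf_idem]) (fun g hg => hz g hg.1) hzM hu (fun _ hg => hi.sq hg)
    hs hsM hs2 hy hys hyy

theorem caseIa {r w z s : G} (c : Cy T (T ⊓ A) r w z) (hs : s ∈ T ⊓ A) (hs2 : s * s = 1)
    (hsC : s ∉ zpowers r) (tw : t * w * t⁻¹ = w) : False := by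
  have si : s⁻¹ = s := inv_eq_of_mul_eq_one_right hs2
  have h1 : s * (t * s * t⁻¹) ∈ zpowers r :=
    c.ix _ hs _ (h.cjS h.tT hs) hsC fun h2 => hsC (c.cj' h.tT h2)
  rcases c.small tw h1 (by
    calc t * (s * (t * s * t⁻¹)) * t⁻¹ = t * s * (t * s * (t * t)⁻¹) := by group
      _ = t * s⁻¹ * t⁻¹ * s⁻¹ := by rw [h.tt, si, h.ti]; group
      _ = _ := by group) with h2 | h2
  · have h3 : s * t = t * s := by
      rw [← mul_assoc, mul_inv_eq_one] at h2
      calc s * t = s * t * s * s := by rw [mul_assoc (s * t), hs2, mul_one]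
        _ = t * s := by rw [mul_assoc s t s, h2]
    have := h.uq s ⟨hs.2, mem_centralizer_singleton_iff.2 h3⟩ z
      ⟨(c.CS c.zC).2, mem_centralizer_singleton_iff.2 (c.zc h.tT).symm⟩ hs2 c.zz (c.zc hs.1)
      (fun e => hsC (e ▸ one_mem _)) c.z1
    exact hsC (this ▸ c.zC)
  · have h3 : t * s * t⁻¹ = s * z := by rw [← h2, ← mul_assoc, hs2, one_mul]
    have h4 : w * s * w⁻¹ = s * z := by
      have := c.inv s hs hsC
      calc w * s * w⁻¹ = (s * s) * w * s⁻¹ * w⁻¹ := by rw [hs2, si, one_mul]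
        _ = s * (s * w * s⁻¹) * w⁻¹ := by group
        _ = s * (w * w)⁻¹ := by rw [this]; group
        _ = s * z := by rw [c.ww, inv_eq_of_mul_eq_one_right c.zz]
    refine h.lemY' c.CS c.ix (c.nr h.tT) (fun _ => c.zc) c.zC (fun _ => c.uniq) hs.2 hsC hs2
      (T.mul_mem h.tT (c.le (c.CS c.wC))) (y := t * w) ?_ ?_
    · rw [← mul_inv_eq_iff_eq_mul]
      calc t * w * s * (t * w)⁻¹ = t * (w * s * w⁻¹) * t⁻¹ := by group
        _ = t * s * t⁻¹ * (t * z * t⁻¹) := by rw [h4]; group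
        _ = s := by rw [h3, c.zc h.tT, mul_inv_cancel_right, mul_assoc, c.zz, mul_one]
    · calc t * w * (t * w) = t * w * t⁻¹ * w := by rw [h.ti]; group
        _ = z := by rw [tw, c.ww]

end St

theorem uq_of_syl {A S : Subgroup G} (hS : IsSyl 2 S A) (h : Uq S) : Uq A := by
  have : Fact (Nat.Prime 2) := ⟨Nat.prime_two⟩
  intro a ha b hb ha2 hb2 hab ha1 hb1
  by_contra hne
  have hK := Misc.isKleinFour_closure_pair ha2 hb2 hab ha1 hb1 hne
  obtain ⟨g, -, hg⟩ := hS.exists_cj_le (R := closure {a, b})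
    (IsPGroup.of_card (n := 2) (by rw [hK.card_four]; rfl))
    (by rw [closure_le]; rintro _ (rfl | rfl); exacts [ha, hb])
  have := h _ (hg (conj_mem_cj g (subset_closure (show a ∈ ({a, b} : Set G) by simp)))) _
    (hg (conj_mem_cj g (subset_closure (show b ∈ ({a, b} : Set G) by simp))))
    (by calc _ = g * (a * a) * g⁻¹ := by group
          _ = 1 := by rw [ha2]; group)
    (by calc _ = g * (b * b) * g⁻¹ := by group
          _ = 1 := by rw [hb2]; group)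
    (by calc _ = g * (a * b) * g⁻¹ := by group
          _ = _ := by rw [hab]; group)
    (by rwa [Ne, conj_eq_one_iff]) (by rwa [Ne, conj_eq_one_iff])
  exact hne (mul_left_cancel (mul_right_cancel this))

theorem cas_sup {A : Subgroup G} {t : G} (ht : t * t = 1) (hn : t ∈ 𝐍[A]) :
    ∀ g ∈ A ⊔ zpowers t, g ∈ A ∨ g * t ∈ A := by
  intro g hg
  obtain ⟨a, ha, _, ⟨k, rfl⟩, rfl⟩ := (mem_sup_of_le_normalizer_left (zpowers_le.2 hn)).1 hg
  have e : ∀ j : ℤ, t ^ (2 * j) = 1 := fun j => by rw [zpow_mul, zpow_two, ht, one_zpow]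
  rcases Int.even_or_odd' k with ⟨j, rfl | rfl⟩
  · left; simpa [e] using ha
  · right; simpa [zpow_add, e, mul_assoc, ht] using ha

end Cfsg.Agent.Inv.CZ4
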