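import Mathlib
import Cfsg.Agent.Inv.CZ4One
import Cfsg.Agent.Inv.RankOne
import Cfsg.Agent.S0949

/-! An involution with centralizer of type `(2, 4)`: auxiliary configurations. -/

set_option autoImplicit false
set_option linter.unusedSectionVars false
set_option linter.unnecessarySimpa false

namespace Cfsg.Agent.Inv.CZ4

open Subgroup Cfsg.Agent.PLocal.Amb Cfsg.Agent.Inv

variable {G : Type*} [Group G] [Finite G]

theorem cj_sq {g x : G} (h : x * x = 1) : g * x * g⁻¹ * (g * x * g⁻¹) = 1 := by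
  calc _ = g * (x * x) * g⁻¹ := by group
    _ = 1 := by rw [h]; group

theorem cas_sup' {A : Subgroup G} {t : G} (ht : t * t ∈ A) (hn : t ∈ 𝐍[A]) :
    ∀ g ∈ A ⊔ zpowers t, g ∈ A ∨ g * t ∈ A := by
  intro g hg
  obtain ⟨a, ha, _, ⟨k, rfl⟩, rfl⟩ := (mem_sup_of_le_normalizer_left (zpowers_le.2 hn)).1 hg
  have e : ∀ j : ℤ, t ^ (2 * j) ∈ A := fun j => by rw [zpow_mul, zpow_two]; exact zpow_mem ht j
  rcases Int.even_or_odd' k with ⟨j, rfl | rfl⟩
  · left; exact mul_mem ha (e j)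
  · right
    have : a * t ^ (2 * j + 1) * t = a * t ^ (2 * (j + 1)) := by group
    rw [this]; exact mul_mem ha (e _)

theorem uq_conj {A : Subgroup G} {t g : G} (h : Uq (A ⊓ centralizer {t})) (hg : g ∈ 𝐍[A]) :
    Uq (A ⊓ centralizer {g * t * g⁻¹}) := by
  have key : ∀ a ∈ A ⊓ centralizer {g * t * g⁻¹}, g⁻¹ * a * g⁻¹⁻¹ ∈ A ⊓ centralizer {t} := by
    intro a ha
    refine ⟨conj_mem_of_mem_normalizer (inv_mem hg) ha.1, ?_⟩
    have := ha.2
    rw [centralizer_singleton_conj] at this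
    simpa using mem_cj.1 this
  intro a ha b hb ha2 hb2 hab ha1 hb1
  have := h _ (key a ha) _ (key b hb) (cj_sq ha2) (cj_sq hb2)
    (by calc _ = g⁻¹ * (a * b) * g := by group
          _ = _ := by rw [hab]; group)
    (by rwa [Ne, conj_eq_one_iff]) (by rwa [Ne, conj_eq_one_iff])
  exact mul_left_cancel (mul_right_cancel this)

theorem ixE {M S : Subgroup G} {e z : G} (ee : e * e = 1) (hz : z ∈ M)
    (ce : ∀ g ∈ S, g * e * g⁻¹ = e ∨ g * e * g⁻¹ = e * z) (h : ∀ g ∈ S, g ∈ M ∨ g * e ∈ M) :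
    Ix M S := by
  intro a ha b hb h1 h2
  have h3 := (h a ha).resolve_left h1
  have h4 := (h b hb).resolve_left h2
  have e1 : a * b = a * e * (b * (b⁻¹ * e * b⁻¹⁻¹)) := by
    calc a * b = a * (e * e) * b := by rw [ee, mul_one]
      _ = _ := by group
  rw [e1]
  rcases ce _ (inv_mem hb) with h5 | h5 <;> rw [h5]
  · exact mul_mem h3 h4
  · rw [← mul_assoc b]; exact mul_mem h3 (mul_mem h4 hz)

/-- conjugacy under `A` -/
def Fu (A : Subgroup G) (p q : G) : Prop := ∃ g ∈ A, g * p * g⁻¹ = q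

theorem Fu.symm {A : Subgroup G} {p q : G} (h : Fu A p q) : Fu A q p := by
  obtain ⟨g, hg, rfl⟩ := h
  exact ⟨g⁻¹, inv_mem hg, by group⟩

theorem Fu.trans {A : Subgroup G} {p q r : G} (h : Fu A p q) (h' : Fu A q r) : Fu A p r := by
  obtain ⟨g, hg, rfl⟩ := h
  obtain ⟨k, hk, rfl⟩ := h'
  exact ⟨k * g, mul_mem hk hg, by group⟩

theorem Fu.extremal {A S R : Subgroup G} (hS : IsSyl 2 S A) {p q : G} (h : Fu A p q)
    (hq : ∀ s ∈ S, s * q = q * s) (hR : IsPGroup 2 R) (hRA : R ≤ A) (hp : ∀ s ∈ R, s * p = p * s) :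
    ∃ g ∈ A, g * p * g⁻¹ = q ∧ cj(g, R) ≤ S := by
  have : Fact (Nat.Prime 2) := ⟨Nat.prime_two⟩
  obtain ⟨g, hg, rfl⟩ := h
  obtain ⟨c, hc, h1⟩ := (hS.mono (K := A ⊓ centralizer {g * p * g⁻¹})
    (le_inf hS.le fun s hs => mem_centralizer_singleton_iff.2 (hq s hs)) inf_le_left).exists_cj_le
    (isPGroup_cj g hR) (le_inf (cj_le_of_mem hRA hg) (by
      rw [centralizer_singleton_conj]
      exact cj_mono g fun s hs => mem_centralizer_singleton_iff.2 (hp s hs)))
  refine ⟨c * g, mul_mem hc.1 hg, ?_, by rwa [cj_mul]⟩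
  calc c * g * p * (c * g)⁻¹ = c * (g * p * g⁻¹) * c⁻¹ := by group
    _ = _ := by rw [mem_centralizer_singleton_iff.1 hc.2]; group

theorem mem_of_sq {A S K : Subgroup G} (hS : IsSyl 2 S A) (hSK : S ≤ K) {n : G} (hn : n ∈ A)
    (hnS : n ∈ 𝐍[S]) (h2 : n * n ∈ K) : n ∈ K := by
  obtain ⟨k, m, ⟨j, hj⟩, hkm⟩ := Nat.exists_eq_two_pow_mul_odd (orderOf_pos n).ne'
  have h1 : n ^ m ∈ K := hSK (hS.le_of_normalizes (R := zpowers (n ^ m))
    (isPGroup_zpowers ⟨k, by rw [← pow_mul, mul_comm, ← hkm, pow_orderOf_eq_one]⟩)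
    (zpowers_le.2 (pow_mem hn m)) (zpowers_le.2 (pow_mem hnS m)) (mem_zpowers _))
  rw [hj, pow_succ, pow_mul, sq] at h1
  exact (mul_mem_cancel_left (pow_mem h2 j)).1 h1

theorem memB {a e z w g : G} (ee : e * e = 1) (ae : a * e = e * a) (hw : w ∈ zpowers a)
    (ww : w * w = z) (zz : z * z = 1) (z1 : z ≠ 1) (hg : g ∈ zpowers a ∨ g * e ∈ zpowers a)
    (g2 : g * g = 1) : g = 1 ∨ g = z ∨ g = e ∨ g = e * z := by
  have hz : z ∈ zpowers a := ww ▸ mul_mem hw hw
  have ce : ∀ c ∈ zpowers a, c * e = e * c := by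
    rintro _ ⟨k, rfl⟩; exact ((show Commute a e from ae).zpow_left k).eq
  rcases hg with h | h
  · rcases cyc_uniq h hz g2 zz z1 with h | h
    · exact Or.inl h
    · exact Or.inr (Or.inl h)
  · have h1 : g * e = e * g := by
      have := ce _ h
      rw [mul_assoc, ee, mul_one] at this
      calc g * e = (e * e) * g * e := by rw [ee, one_mul]
        _ = e * g := by rw [mul_assoc e e g, mul_assoc e, mul_assoc e g e, ← this]
    rcases cyc_uniq h hz (by
      calc g * e * (g * e) = g * (e * g) * e := by group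
        _ = g * g * (e * e) := by rw [← h1]; group
        _ = 1 := by rw [g2, ee, one_mul]) zz z1 with h2 | h2
    · exact Or.inr (Or.inr (Or.inl (mul_right_cancel (h2.trans ee.symm))))
    · refine Or.inr (Or.inr (Or.inr ?_))
      rw [← h2, ← mul_assoc, ← h1, mul_assoc, ee, mul_one]

/-- A perfect group has no Sylow `2`-subgroup `D × Z₂` with `D` nonabelian dihedral. -/
theorem dih {A S : Subgroup G} (hA : ⁅A, A⁆ = A) (hS : IsSyl 2 S A) {a e v z : G} {m : ℕ}
    (aS : a ∈ S) (eS : e ∈ S) (vS : v ∈ S) (ee : e * e = 1) (e1 : e ≠ 1) (ez : e ≠ z)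
    (ww : a ^ m * a ^ m = z) (zz : z * z = 1) (z1 : z ≠ 1) (ae : a * e = e * a) (vv : v * v = 1)
    (ve : v * e = e * v) (va : v * a * v⁻¹ = a⁻¹)
    (cov : ∀ g ∈ S, (g ∈ zpowers a ∨ g * e ∈ zpowers a) ∨
      (v * g ∈ zpowers a ∨ v * g * e ∈ zpowers a)) : False := by
  have ei : e⁻¹ = e := inv_eq_of_mul_eq_one_right ee
  have vi : v⁻¹ = v := inv_eq_of_mul_eq_one_right vv
  have zi : z⁻¹ = z := inv_eq_of_mul_eq_one_right zz
  have hw : a ^ m ∈ zpowers a := pow_mem (mem_zpowers a) m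
  have hz : z ∈ zpowers a := ww ▸ mul_mem hw hw
  have zS : z ∈ S := zpowers_le.2 aS hz
  set B := zpowers a ⊔ zpowers e with hB
  have en : e ∈ 𝐍[zpowers a] := centralizer_le_normalizer' _ (by
    rw [centralizer_zpowers]; exact mem_centralizer_singleton_iff.2 ae.symm)
  have mB : ∀ g, g ∈ B ↔ g ∈ zpowers a ∨ g * e ∈ zpowers a := fun g =>
    ⟨cas_sup ee en g, fun h => h.elim (fun h => mem_sup_left h) fun h => by
      have : g = g * e * e := by rw [mul_assoc, ee, mul_one]
      rw [this]; exact mul_mem (mem_sup_left h) (mem_sup_right (mem_zpowers e))⟩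
  have aB : a ∈ B := mem_sup_left (mem_zpowers a)
  have eB : e ∈ B := mem_sup_right (mem_zpowers e)
  have zB : z ∈ B := mem_sup_left hz
  have BS : B ≤ S := sup_le (zpowers_le.2 aS) (zpowers_le.2 eS)
  have Bc : ∀ x ∈ B, ∀ y ∈ B, x * y = y * x := by
    have : B ≤ 𝐂[B] := by
      rw [hB, centralizer_sup, centralizer_zpowers, centralizer_zpowers]
      exact sup_le (zpowers_le.2 ⟨mem_centralizer_singleton_iff.2 rfl,
        mem_centralizer_singleton_iff.2 ae⟩) (zpowers_le.2 ⟨mem_centralizer_singleton_iff.2 ae.symm,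
        mem_centralizer_singleton_iff.2 rfl⟩)
    exact fun x hx y hy => this hy x hx
  have vinv : ∀ b ∈ B, v * b * v⁻¹ = b⁻¹ := by
    intro b hb
    rcases (mB b).1 hb with h | h
    · exact conj_eq_inv_of_mem_zpowers va h
    · have h1 := conj_eq_inv_of_mem_zpowers va h
      calc v * b * v⁻¹ = v * (b * (e * e)) * v⁻¹ := by rw [ee, mul_one]
        _ = v * (b * e) * v⁻¹ * (v * e * v⁻¹) := by group
        _ = (b * e)⁻¹ * e := by rw [h1, ve]; group
        _ = b⁻¹ := by rw [Bc b hb e eB]; group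
  have cov' : ∀ g ∈ S, g ∉ B → v * g ∈ B := fun g hg h =>
    (mB _).2 ((cov g hg).resolve_left fun h' => h ((mB g).2 h'))
  have vB : v ∉ B := fun h => by
    have h1 := vinv _ (pow_mem aB m)
    rw [Bc v h _ (pow_mem aB m), mul_inv_cancel_right, eq_inv_iff_mul_eq_one, ww] at h1
    exact z1 h1
  have ix : Ix B S := fun x hx y hy h1 h2 => by
    have : x * y = (v * (v * x) * v⁻¹) * (v * y) := by
      calc x * y = (v * v) * x * y := by rw [vv, one_mul]
        _ = _ := by group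
    rw [this, vinv _ (cov' x hx h1)]
    exact mul_mem (inv_mem (cov' x hx h1)) (cov' y hy h2)
  have oinv : ∀ g ∈ S, g ∉ B → ∀ b ∈ B, g * b * g⁻¹ = b⁻¹ := fun g hg h b hb => by
    calc g * b * g⁻¹ = (v * v) * (g * b * g⁻¹) * (v * v)⁻¹ := by rw [vv]; group
      _ = v * (v * g * b * (v * g)⁻¹) * v⁻¹ := by group
      _ = b⁻¹ := by rw [Bc _ (cov' g hg h) b hb, mul_inv_cancel_right, vinv b hb]
  have osq : ∀ g ∈ S, g ∉ B → g * g = 1 := fun g hg h => by
    have := vinv _ (cov' g hg h)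
    rw [← mul_assoc, vv, one_mul, vi, mul_inv_rev, vi, mul_left_inj, eq_inv_iff_mul_eq_one] at this
    exact this
  have cent : ∀ b ∈ B, b * b = 1 → ∀ s ∈ S, s * b = b * s := fun b hb b2 s hs => by
    by_cases h : s ∈ B
    · exact Bc s h b hb
    · rw [← mul_inv_eq_iff_eq_mul, oinv s hs h b hb, inv_eq_of_mul_eq_one_right b2]
  have ezz : e * z * (e * z) = 1 := by
    calc e * z * (e * z) = e * (z * e) * z := by group
      _ = e * e * (z * z) := by rw [Bc z zB e eB]; group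
      _ = 1 := by rw [ee, zz, one_mul]
  have inB : ∀ g ∈ B, g * g = 1 → g = 1 ∨ g = z ∨ g = e ∨ g = e * z := fun g hg =>
    memB ee ae hw ww zz z1 ((mB g).1 hg)
  have nz : ∀ n, cj(n, S) ≤ S → n * z * n⁻¹ = z := fun n hn => by
    have h1 := hn (conj_mem_cj n (pow_mem aS m))
    have e2 : n * z * n⁻¹ = n * a ^ m * n⁻¹ * (n * a ^ m * n⁻¹) := by rw [← ww]; group
    have h2 : n * z * n⁻¹ ≠ 1 := by rwa [Ne, conj_eq_one_iff]
    have h3 : n * a ^ m * n⁻¹ ∈ B := by
      by_contra h; exact h2 (e2.trans (osq _ h1 h))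
    refine (cyc_uniq ?_ hz (cj_sq zz) zz z1).resolve_left h2
    rw [e2]
    rcases (mB _).1 h3 with h | h
    · exact mul_mem h h
    · have := mul_mem h h
      rwa [mul_assoc _ e, ← mul_assoc e, ← Bc _ h3 e eB, mul_assoc _ e, ee, mul_one] at this
  have nf : ∀ p ∈ B, p * p = 1 → ∀ q ∈ B, q * q = 1 → Fu A p q → p = q := by
    intro p hp p2 q hq q2 h
    obtain ⟨n, hn, h1, h2⟩ := h.extremal hS (cent q hq q2) hS.pgrp hS.le (cent p hp p2)
    have h3 := nz n h2
    have h4 : ∀ g ∈ B, g * g = 1 → n * g * n⁻¹ ∈ B := fun g hg g2 => by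
      by_contra h5
      have h6 := oinv _ (h2 (conj_mem_cj n (BS hg))) h5 _ (pow_mem aB m)
      obtain ⟨s, hs, e3⟩ : a ^ m ∈ cj(n, S) :=
        (eq_of_le_of_card_ge h2 (card_cj n S).ge).ge (pow_mem aS m)
      have e4 : n * s * n⁻¹ = a ^ m := e3
      have h7 : n * g * n⁻¹ * a ^ m = a ^ m * (n * g * n⁻¹) := by
        rw [← e4]
        calc _ = n * (g * s) * n⁻¹ := by group
          _ = _ := by rw [← cent g hg g2 s hs]; group
      rw [h7, mul_inv_cancel_right, eq_inv_iff_mul_eq_one, ww] at h6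
      exact z1 h6
    have h5 : n * e * n⁻¹ = e := by
      rcases inB _ (h4 e eB ee) (cj_sq ee) with h | h | h | h
      · exact absurd (conj_eq_one_iff.1 h) e1
      · exact absurd (mul_left_cancel (mul_right_cancel (h.trans h3.symm))) ez
      · exact h
      · have := mem_of_sq (K := centralizer {e}) hS
          (fun s hs => mem_centralizer_singleton_iff.2 (cent e eB ee s hs)) hn
          (mem_normalizer_of_cj_le h2) (mem_centralizer_singleton_iff.2 (by
            rw [← mul_inv_eq_iff_eq_mul]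
            calc n * n * e * (n * n)⁻¹ = n * (n * e * n⁻¹) * n⁻¹ := by group
              _ = n * e * n⁻¹ * (n * z * n⁻¹) := by nth_rw 1 [h]; group
              _ = e := by rw [h, h3, mul_assoc, zz, mul_one]))
        exact mul_inv_eq_iff_eq_mul.2 (mem_centralizer_singleton_iff.1 this)
    rw [← h1]
    rcases inB p hp p2 with rfl | rfl | rfl | rfl
    · simp
    · exact h3.symm
    · exact h5.symm
    · calc e * z = n * e * n⁻¹ * (n * z * n⁻¹) := by rw [h5, h3]
        _ = _ := by group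
  have ez1 : e * z ≠ e := by simpa using z1
  have sz : ∀ g ∈ S, g ∉ B → Fu A g (g * z) := fun g hg h =>
    ⟨a ^ m, hS.le (pow_mem aS m), by
      have h1 := oinv g hg h _ (pow_mem aB m)
      have h2 : g⁻¹ = g := inv_eq_of_mul_eq_one_right (osq g hg h)
      calc a ^ m * g * (a ^ m)⁻¹ = a ^ m * (g * a ^ m * g⁻¹)⁻¹ * g := by group
        _ = z * g := by rw [h1, inv_inv, ww]
        _ = g * z := (cent z zB zz g hg).symm⟩
  have PP : ∀ x ∈ S, x ∉ B → Fu A x e → ¬ Fu A (x * e) e := by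
    intro x hx hxB h1 h2
    have hR : zpowers z ⊔ zpowers e ≤ S := sup_le (zpowers_le.2 zS) (zpowers_le.2 eS)
    obtain ⟨g, hg, h3, h4⟩ := h1.extremal hS (cent e eB ee) (hS.pgrp.to_le hR) (hR.trans hS.le) (by
      have : zpowers z ⊔ zpowers e ≤ centralizer {x} := sup_le
        (zpowers_le.2 (mem_centralizer_singleton_iff.2 (cent z zB zz x hx).symm))
        (zpowers_le.2 (mem_centralizer_singleton_iff.2 (cent e eB ee x hx).symm))
      exact fun s hs => mem_centralizer_singleton_iff.1 (this hs))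
    have hz' := h4 (conj_mem_cj g (mem_sup_left (mem_zpowers z)))
    have he' := h4 (conj_mem_cj g (mem_sup_right (mem_zpowers e)))
    have h5 : g * e * g⁻¹ ∉ B := fun h => hxB (by
      have := nf e eB ee _ h (cj_sq ee) ⟨g, hg, rfl⟩
      have : x = e := mul_left_cancel (mul_right_cancel (h3.trans this))
      exact this ▸ eB)
    have e5 : g * (e * z) * g⁻¹ = g * e * g⁻¹ * (g * z * g⁻¹) := by group
    by_cases h6 : g * z * g⁻¹ ∈ B
    · have h7 := nf z zB zz _ h6 (cj_sq zz) ⟨g, hg, rfl⟩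
      refine ez1 (nf _ (mul_mem eB zB) ezz e eB ee ?_)
      refine Fu.trans ⟨g, hg, e5⟩ (Fu.trans ?_ (Fu.symm ⟨g, hg, rfl⟩))
      rw [← h7]; exact (sz _ he' h5).symm
    · have h7 := nf _ (mul_mem eB zB) ezz _ (ix _ he' _ hz' h5 h6) (e5 ▸ cj_sq ezz) ⟨g, hg, e5⟩
      refine ez (nf e eB ee z zB zz (h2.symm.trans (Fu.trans ⟨g, hg, ?_⟩
        ((sz _ hz' h6).symm.trans (Fu.symm ⟨g, hg, rfl⟩)))))
      calc g * (x * e) * g⁻¹ = g * x * g⁻¹ * (g * e * g⁻¹) := by group
        _ = e * (g * e * g⁻¹ * (g * z * g⁻¹)) * (g * z * g⁻¹) := by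
          rw [h3, mul_assoc e, mul_assoc (g * e * g⁻¹), cj_sq zz, mul_one]
        _ = z * (g * z * g⁻¹) := by rw [← h7, ← mul_assoc e, ee, one_mul]
        _ = _ := (cent z zB zz _ hz').symm
  have Th : ∀ b ∈ B, z ∈ zpowers b → (∀ g ∈ B, g ∈ zpowers b ∨ g * e ∈ zpowers b) →
      ∀ x ∈ S, x ∉ B → Fu A x e ∨ Fu A (b * x) e := by
    intro b hb hzb hcov x hx hxB
    have xb := oinv x hx hxB b hb
    have xx := osq x hx hxB
    have xn := mem_normalizer_zpowers_of_conj_eq_inv xb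
    obtain ⟨g, hg, h1⟩ := thompson (M := zpowers b ⊔ zpowers x) hA hS
      (sup_le (zpowers_le.2 (BS hb)) (zpowers_le.2 hx)) (ixE ee (mem_sup_left hzb)
        (fun g hg => Or.inl (mul_inv_eq_iff_eq_mul.2 (cent e eB ee g hg))) fun g hg => by
          by_cases h : g ∈ B
          · exact (hcov g h).imp (fun h => mem_sup_left h) fun h => mem_sup_left h
          · have e6 : g = x * (x * g) := by rw [← mul_assoc, xx, one_mul]
            refine (hcov _ (ix _ hx _ hg hxB h)).imp (fun h => ?_) fun h => ?_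
            · rw [e6]; exact mul_mem (mem_sup_right (mem_zpowers x)) (mem_sup_left h)
            · rw [e6, mul_assoc]; exact mul_mem (mem_sup_right (mem_zpowers x)) (mem_sup_left h))
      (hS.le eS) ee
    rcases cas_sup xx xn _ h1 with h2 | ⟨i, h2⟩
    · rcases cyc_uniq h2 hzb (cj_sq ee) zz z1 with h3 | h3
      · exact absurd (conj_eq_one_iff.1 h3) e1
      · exact absurd (nf e eB ee z zB zz ⟨g, hg, h3⟩) ez
    · have h3 : Fu A (b ^ i * x) e := Fu.symm ⟨g, hg, by
        have h2' : b ^ i = g * e * g⁻¹ * x := h2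
        rw [h2', mul_assoc _ x, xx, mul_one]⟩
      have h4 : ∀ (j : ℤ) (y : G), y * b * y⁻¹ = b⁻¹ → Fu A y (b ^ (2 * j) * y) := fun j y hy =>
        ⟨b ^ j, zpow_mem (hS.le (BS hb)) j, by
          calc b ^ j * y * (b ^ j)⁻¹ = b ^ j * (y * b ^ j * y⁻¹)⁻¹ * y := by group
            _ = _ := by rw [conj_zpow_eq_inv hy]; group⟩
      rcases Int.even_or_odd' i with ⟨j, rfl | rfl⟩
      · exact Or.inl ((h4 j x xb).trans h3)
      · refine Or.inr ((h4 j (b * x) ?_).trans (by rwa [zpow_add, zpow_one, mul_assoc] at h3))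
        calc b * x * b * (b * x)⁻¹ = b * (x * b * x⁻¹) * b⁻¹ := by group
          _ = b⁻¹ := by rw [xb]; group
  have Tha := Th a aB hz fun g hg => (mB g).1 hg
  have cae : Commute a e := ae
  have Thb := Th (a * e) (mul_mem aB eB) ⟨(2 * m : ℕ), by
      show (a * e) ^ ((2 * m : ℕ) : ℤ) = z
      rw [zpow_natCast, cae.mul_pow, pow_mul e, sq e, ee, one_pow, mul_one, two_mul, pow_add, ww]⟩
    (fun g hg => by
      have e7 : ∀ j : ℤ, e ^ (2 * j) = 1 := fun j => by rw [zpow_mul, zpow_two, ee, one_zpow]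
      have key : ∀ c ∈ zpowers a, c ∈ zpowers (a * e) ∨ c * e ∈ zpowers (a * e) := by
        rintro _ ⟨i, rfl⟩
        rcases Int.even_or_odd' i with ⟨j, rfl | rfl⟩
        · exact Or.inl ⟨2 * j, by simp only [cae.mul_zpow, e7, mul_one]⟩
        · exact Or.inr ⟨2 * j + 1, by simp only [cae.mul_zpow, zpow_add e, e7, one_mul, zpow_one]⟩
      rcases (mB g).1 hg with h | h
      · exact key g h
      · have := key _ h
        rw [mul_assoc g e e, ee, mul_one] at this
        exact this.symm)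
  have fin : ∀ x ∈ S, x ∉ B → ¬ Fu A x e := by
    intro x hx hxB h
    have h1 := PP x hx hxB h
    have h2 : x * e ∉ B := fun h => hxB ((mul_mem_cancel_right eB).1 h)
    have h3 := (Tha _ (mul_mem hx eS) h2).resolve_left h1
    have h4 := (Thb _ (mul_mem hx eS) h2).resolve_left h1
    rw [mul_assoc a e, ← mul_assoc e, ← cent e eB ee x hx, mul_assoc x, ee, mul_one] at h4
    rw [← mul_assoc] at h3
    exact PP _ (mul_mem aS hx) (fun h => hxB ((mul_mem_cancel_left aB).1 h)) h4 h3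
  rcases Tha v vS vB with h | h
  · exact fin v vS vB h
  · exact fin _ (mul_mem aS vS) (fun h => vB ((mul_mem_cancel_left aB).1 h)) h

/-- A perfect group has no Sylow `2`-subgroup of type `(4, 4)`. -/
theorem z44 {A S : Subgroup G} (hA : ⁅A, A⁆ = A) (hS : IsSyl 2 S A) {a v : G} (aS : a ∈ S)
    (vS : v ∈ S) (a4 : a ^ 4 = 1) (v4 : v ^ 4 = 1) (a2 : a ^ 2 ≠ 1) (v2 : v ^ 2 ∉ zpowers a)
    (av : Commute a v) (cov : S ≤ zpowers a ⊔ zpowers v) : False := by
  have : Fact (Nat.Prime 2) := ⟨Nat.prime_two⟩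
  have pw : ∀ x : G, x ^ 4 = 1 → ∀ i j : ZMod (2 ^ 2), x ^ (i + j).val = x ^ i.val * x ^ j.val :=
    fun x hx i j => by rw [ZMod.val_add, ← pow_add]; exact (pow_eq_pow_mod _ hx).symm
  let f : Multiplicative (ZMod (2 ^ 2) × ZMod (2 ^ 2)) →* S := MonoidHom.mk'
    (fun p => ⟨a ^ p.toAdd.1.val * v ^ p.toAdd.2.val, mul_mem (pow_mem aS _) (pow_mem vS _)⟩)
    (fun p q => Subtype.ext (by
      simp only [toAdd_mul, Prod.fst_add, Prod.snd_add, pw a a4, pw v v4, MulMemClass.mk_mul_mk]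
      rw [mul_assoc, mul_assoc, ← mul_assoc (a ^ _) (v ^ _), (av.pow_pow _ _).eq, mul_assoc]))
  have hf : Function.Bijective f := by
    constructor
    · rw [injective_iff_map_eq_one]
      intro p hp
      have h1 : a ^ p.toAdd.1.val * v ^ p.toAdd.2.val = 1 := congrArg Subtype.val hp
      have h2 : v ^ p.toAdd.2.val ∈ zpowers a := by
        rw [eq_inv_of_mul_eq_one_right h1]; exact inv_mem (pow_mem (mem_zpowers a) _)
      have h3 : p.toAdd.2.val = 0 := by
        have := ZMod.val_lt p.toAdd.2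
        generalize p.toAdd.2.val = j at h2 this
        have hj : j < 4 := this
        interval_cases j
        · rfl
        · exact absurd (pow_mem (by simpa using h2) 2) v2
        · exact absurd h2 v2
        · refine absurd ?_ v2
          have := pow_mem h2 2
          rwa [← pow_mul, show 3 * 2 = 4 + 2 by rfl, pow_add, v4, one_mul] at this
      rw [h3, pow_zero, mul_one] at h1
      have h4 : p.toAdd.1.val = 0 := by
        have := ZMod.val_lt p.toAdd.1
        generalize p.toAdd.1.val = j at h1 this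
        have hj : j < 4 := this
        interval_cases j
        · rfl
        · exact absurd (by rw [pow_one] at h1; rw [h1, one_pow]) a2
        · exact absurd h1 a2
        · refine absurd ?_ a2
          have : (a ^ 3) ^ 2 = 1 := by rw [h1, one_pow]
          rwa [← pow_mul, show 3 * 2 = 4 + 2 by rfl, pow_add, a4, one_mul] at this
      exact Multiplicative.toAdd.injective (Prod.ext ((ZMod.val_eq_zero _).1 h4)
        ((ZMod.val_eq_zero _).1 h3))
    · have ha : a ∈ f.range.map S.subtype :=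
        ⟨_, ⟨Multiplicative.ofAdd (1, 0), rfl⟩, by
          show a ^ (1 : ZMod (2 ^ 2)).val * v ^ (0 : ZMod (2 ^ 2)).val = a
          rw [show (1 : ZMod (2 ^ 2)).val = 1 from rfl, ZMod.val_zero]; simp⟩
      have hv : v ∈ f.range.map S.subtype :=
        ⟨_, ⟨Multiplicative.ofAdd (0, 1), rfl⟩, by
          show a ^ (0 : ZMod (2 ^ 2)).val * v ^ (1 : ZMod (2 ^ 2)).val = v
          rw [show (1 : ZMod (2 ^ 2)).val = 1 from rfl, ZMod.val_zero]; simp⟩
      intro s
      obtain ⟨x, ⟨p, rfl⟩, hx⟩ := sup_le (zpowers_le.2 ha) (zpowers_le.2 hv) (cov s.2)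
      exact ⟨p, Subtype.ext hx⟩
  obtain ⟨P, hP⟩ := hS.exists_sylow
  let π := QuotientGroup.mk' (pPrimeCore 2 A)
  let Q := P.mapSurjective (QuotientGroup.mk'_surjective (pPrimeCore 2 A))
  obtain ⟨e1⟩ := nonempty_equiv_map_of_inf_ker π (sylow_inf_ker_core P.isPGroup')
  let e2 : (Q : Subgroup (A ⧸ pPrimeCore 2 A)) ≃* Multiplicative (ZMod (2 ^ 2) × ZMod (2 ^ 2)) :=
    e1.symm.trans ((MulEquiv.subgroupCongr hP).trans ((subgroupOfEquivOfLe hS.le).trans
      (MulEquiv.ofBijective f hf).symm))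
  obtain ⟨hn, -, hi⟩ := S0949.result Q 2 le_rfl e2 eq_bot_of_odd_normal_quotient_core
  have hc : commutator A = ⊤ := by
    rw [eq_top_iff, ← map_le_map_iff_of_injective A.subtype_injective, commutator_def,
      map_commutator, ← MonoidHom.range_eq_map, range_subtype, hA]
  have hc' : commutator (A ⧸ pPrimeCore 2 A) = ⊤ := by
    rw [commutator_def, ← map_top_of_surjective π (QuotientGroup.mk'_surjective _),
      ← map_commutator, ← commutator_def, hc]
  have hcyc : IsCyclic ((A ⧸ pPrimeCore 2 A) ⧸ (Q : Subgroup (A ⧸ pPrimeCore 2 A))) := by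
    rcases hi with h | h
    · have : Subsingleton ((A ⧸ pPrimeCore 2 A) ⧸ (Q : Subgroup (A ⧸ pPrimeCore 2 A))) :=
        (Nat.card_eq_one_iff_unique.1 h).1
      infer_instance
    · have : Fact (Nat.Prime 3) := ⟨Nat.prime_three⟩
      exact isCyclic_of_prime_card h
  have htop : (Q : Subgroup (A ⧸ pPrimeCore 2 A)) = ⊤ := by
    rw [eq_top_iff, ← hc']
    exact Normal.quotient_commutative_iff_commutator_le.1 inferInstance
  have hcomm : ∀ x y : A ⧸ pPrimeCore 2 A, x * y = y * x := fun x y => by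
    have := e2.injective (a₁ := ⟨x, htop ▸ mem_top x⟩ * ⟨y, htop ▸ mem_top y⟩)
      (a₂ := ⟨y, htop ▸ mem_top y⟩ * ⟨x, htop ▸ mem_top x⟩) (by rw [map_mul, map_mul, mul_comm])
    exact congrArg Subtype.val this
  have hbot : (⊤ : Subgroup (A ⧸ pPrimeCore 2 A)) = ⊥ := by
    rw [← hc', commutator_def, commutator_eq_bot_iff_le_centralizer]
    exact fun x _ y _ => hcomm y x
  have h16 := Nat.card_congr e2.toEquiv
  rw [htop, hbot] at h16
  simp at h16

end Cfsg.Agent.Inv.CZ4
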