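import Mathlib
import Cfsg.Agent.Inv.CZ4Two
import Cfsg.Agent.S0112
import Cfsg.Agent.S0113

/-! An involution acting on a perfect group with cyclic Sylow `2`-subgroups of order `4` in its
centralizer. -/

set_option autoImplicit false
set_option linter.unusedSectionVars false
set_option linter.unnecessarySimpa false

namespace Cfsg.Agent.Inv.CZ4

open Subgroup Cfsg.Agent.PLocal.Amb Cfsg.Agent.Inv

variable {G : Type*} [Group G] [Finite G]

structure St4 (A L T : Subgroup G) (t u z : G) : Prop extends St A L T t where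
  uS : u ∈ T ⊓ A
  ut : t * u * t⁻¹ = u
  uu : u * u = z
  zz : z * z = 1
  z1 : z ≠ 1
  cen : ∀ g ∈ T ⊓ A, t * g * t⁻¹ = g → g ∈ zpowers u
  tA : t ∉ A

namespace St4

variable {A L T : Subgroup G} {t u z : G} (h : St4 A L T t u z)
include h

theorem zu : z ∈ zpowers u := h.uu ▸ mul_mem (mem_zpowers u) (mem_zpowers u)

theorem zS : z ∈ T ⊓ A := zpowers_le.2 h.uS h.zu

theorem inv_eq {g : G} (hg : g ∈ T ⊓ A) (h1 : t * g * t⁻¹ = g) (h2 : g * g = 1) : g = 1 ∨ g = z :=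
  cyc_uniq (h.cen g hg h1) h.zu h2 h.zz h.z1

theorem z_mem {E : Subgroup G} (hE : E ≤ T ⊓ A) (hn : T ≤ 𝐍[E]) (h1 : E ≠ ⊥) :
    z ∈ E ⊓ 𝐂[T] := by
  have : Fact (Nat.Prime 2) := ⟨Nat.prime_two⟩
  have hp := h.syl.pgrp.to_le (hE.trans inf_le_left)
  obtain ⟨x, hx, hx2⟩ := exists_involution_of_isPGroup (hp.to_le (inf_le_left : E ⊓ 𝐂[T] ≤ E))
    (inf_centralizer_ne_bot h.syl.pgrp hp hn h1)
  rcases h.inv_eq (hE hx.1) (mul_inv_eq_iff_eq_mul.2 (hx.2 t h.tT)) (mul_self_of_orderOf_two hx2)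
    with h2 | h2
  · exact absurd h2 (ne_one_of_orderOf_two hx2)
  · exact h2 ▸ hx

theorem zc {g : G} (hg : g ∈ T) : g * z = z * g :=
  (h.z_mem le_rfl (le_normalizer_inf le_normalizer (h.syl.le.trans h.nA))
    (fun e => h.z1 (mem_bot.1 (e ▸ h.zS)))).2 g hg

theorem mulA {a b : G} (ha : a ∈ L) (hb : b ∈ L) (h1 : a ∉ A) (h2 : b ∉ A) : a * b ∈ A := by
  have h3 := (h.cas a ha).resolve_left h1
  have h4 := conj_mem_of_mem_normalizer (h.nA (h.syl.le h.tT)) ((h.cas b hb).resolve_left h2)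
  have : a * b = a * t * (t * (b * t) * t⁻¹) := by
    calc a * b = a * (t * t) * b := by rw [h.tt, mul_one]
      _ = _ := by group
  rw [this]; exact mul_mem h3 h4

theorem caseIb {r w s : G} (c : Cy T (T ⊓ A) r w z) (hs : s ∈ T ⊓ A) (hs2 : s * s = 1)
    (hsC : s ∉ zpowers r) (tw : t * w * t⁻¹ = w⁻¹) : False := by
  have zi : z⁻¹ = z := inv_eq_of_mul_eq_one_right h.zz
  have tu : t * u = u * t := mul_inv_eq_iff_eq_mul.1 h.ut
  have uC : u ∉ zpowers r := fun hu => by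
    rcases cyc_four c.wC c.ww c.zz c.z1 hu (by rw [h.uu, h.zz]) with e | e | e | e
    · exact h.z1 (by rw [← h.uu, e, one_mul])
    · exact h.z1 (by rw [← h.uu, e, h.zz])
    · exact c.w_ne (by rw [← tw, ← e, h.ut])
    · apply c.w_ne
      have := h.ut
      rw [e] at this
      calc w = (t * w * t⁻¹)⁻¹ := by rw [tw, inv_inv]
        _ = t * w⁻¹ * t⁻¹ := by group
        _ = w⁻¹ := this
  have uw := c.inv u h.uS uC
  have hc0 : u⁻¹ * s ∈ zpowers r :=
    c.ix _ (inv_mem h.uS) _ hs (fun e => uC (inv_mem_iff.1 e)) hsC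
  set c0 := u⁻¹ * s with c0d
  have es : s = u * c0 := by rw [c0d]; group
  have wT : w ∈ T := c.le (c.CS c.wC)
  have y0T : t * u ∈ T := T.mul_mem h.tT h.uS.1
  have y0w : t * u * w * (t * u)⁻¹ = w := by
    calc _ = t * (u * w * u⁻¹) * t⁻¹ := by group
      _ = (t * w * t⁻¹)⁻¹ := by rw [uw]; group
      _ = w := by rw [tw, inv_inv]
  have y0y : t * u * (t * u) = z := by
    calc _ = t * (u * t) * u := by group
      _ = (t * t) * (u * u) := by rw [← tu]; group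
      _ = z := by rw [h.tt, h.uu, one_mul]
  have y0u : t * u * u * (t * u)⁻¹ = u := by
    calc _ = t * u * t⁻¹ := by group
      _ = u := h.ut
  have y0C : ∀ x ∈ zpowers r, t * u * x * (t * u)⁻¹ = x ∨ t * u * x * (t * u)⁻¹ = x * z := by
    intro x hx
    rcases c.small y0w (mul_mem (inv_mem hx) (c.cj y0T hx)) (by
      calc _ = (t * u * x * (t * u)⁻¹)⁻¹ * (t * u * (t * u) * x * (t * u * (t * u))⁻¹) := by group
        _ = _ := by rw [y0y, ← h.zc (c.le (c.CS hx))]; group) with e | e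
    · exact Or.inl (inv_mul_eq_one.1 e).symm
    · exact Or.inr (by rw [← e]; group)
  rcases y0C c0 hc0 with e0 | e0
  · refine h.lemY' c.CS c.ix (c.nr h.tT) (fun _ => h.zc) c.zC (fun _ => c.uniq) hs.2 hsC hs2 y0T
      ?_ y0y
    rw [← mul_inv_eq_iff_eq_mul]
    calc t * u * s * (t * u)⁻¹ = t * u * u * (t * u)⁻¹ * (t * u * c0 * (t * u)⁻¹) := by
          rw [es]; group
      _ = s := by rw [y0u, e0, ← es]
  set y := t * u * w with yd
  have yT : y ∈ T := T.mul_mem y0T wT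
  have yy : y * y = 1 := by
    calc y * y = t * u * w * (t * u)⁻¹ * (t * u * (t * u)) * w := by rw [yd]; group
      _ = w * w * z := by rw [y0w, y0y, mul_assoc, ← h.zc wT, mul_assoc]
      _ = 1 := by rw [c.ww, h.zz]
  have yi : y⁻¹ = y := inv_eq_of_mul_eq_one_right yy
  have yC : ∀ x ∈ zpowers r, y * x * y⁻¹ = t * u * x * (t * u)⁻¹ := fun x hx => by
    calc y * x * y⁻¹ = t * u * (w * x * w⁻¹) * (t * u)⁻¹ := by rw [yd]; group
      _ = _ := by rw [cyc_comm c.wC hx, mul_inv_cancel_right]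
  have yu : y * u * y⁻¹ = u * z := by
    calc y * u * y⁻¹ = t * u * (w * (u * w * u⁻¹)⁻¹ * u) * (t * u)⁻¹ := by rw [yd]; group
      _ = t * u * u * (t * u)⁻¹ * z := by
        rw [uw, inv_inv, c.ww, ← h.zc h.uS.1, ← mul_assoc, mul_assoc _ z,
          ← h.zc (inv_mem y0T), ← mul_assoc]
      _ = u * z := by rw [y0u]
  have ys : y * s * y⁻¹ = s := by
    calc y * s * y⁻¹ = y * u * y⁻¹ * (y * c0 * y⁻¹) := by rw [es]; group
      _ = u * c0 * (z * z) := by
        rw [yu, yC c0 hc0, e0, mul_assoc u z, ← mul_assoc z, ← h.zc (c.le (c.CS hc0))]; group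
      _ = s := by rw [h.zz, mul_one, ← es]
  have yA : y ∉ A := fun e => h.tA (by
    rw [yd, mul_assoc] at e
    exact (mul_mem_cancel_right (A.mul_mem h.uS.2 (c.CS c.wC).2)).1 e)
  have yS : ∀ g ∈ T ⊓ A, y * g * y⁻¹ = g ∨ y * g * y⁻¹ = g * z := by
    intro g hg
    by_cases h1 : g ∈ zpowers r
    · rw [yC g h1]; exact y0C g h1
    · have h2 := c.ix _ hs _ hg hsC h1
      have e1 : g = s * (s * g) := by rw [← mul_assoc, hs2, one_mul]
      have e2 : y * g * y⁻¹ = s * (y * (s * g) * y⁻¹) := by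
        nth_rw 1 [← ys]; nth_rw 1 [e1]; group
      rw [e2, yC _ h2]
      rcases y0C _ h2 with e | e <;> rw [e]
      · exact Or.inl e1.symm
      · exact Or.inr (by rw [← mul_assoc, ← e1])
  have yT' : ∀ g ∈ T, y * g * y⁻¹ = g ∨ y * g * y⁻¹ = g * z := by
    intro g hg
    by_cases h1 : g ∈ A
    · exact yS g ⟨hg, h1⟩
    · have e1 : y * g * y⁻¹ = y * (g * y) * y⁻¹ * y⁻¹ := by group
      rw [e1]
      rcases yS (g * y) ⟨T.mul_mem hg yT, h.mulA (h.syl.le hg) (h.syl.le yT) h1 yA⟩ with e | e <;>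
        rw [e]
      · exact Or.inl (by group)
      · exact Or.inr (by rw [mul_assoc g y z, h.zc yT]; group)
  set Q := T ⊓ centralizer {y} with Qd
  have mQ : ∀ g ∈ T, g ∈ Q ↔ y * g * y⁻¹ = g := fun g hg => by
    rw [Qd, mem_inf, mem_centralizer_singleton_iff, mul_inv_eq_iff_eq_mul]
    exact ⟨fun h => h.2.symm, fun h => ⟨hg, h.symm⟩⟩
  have ixQ : Ix Q T := fun a ha b hb h1 h2 => (mQ _ (mul_mem ha hb)).2 (by
    calc y * (a * b) * y⁻¹ = y * a * y⁻¹ * (y * b * y⁻¹) := by group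
      _ = a * b * (z * z) := by
        rw [(yT' a ha).resolve_left (mt (mQ a ha).2 h1), (yT' b hb).resolve_left (mt (mQ b hb).2 h2),
          mul_assoc a z, ← mul_assoc z, ← h.zc hb]; group
      _ = a * b := by rw [h.zz, mul_one])
  have cjA : ∀ g ∈ L, ∀ x, x ∉ A → g * x * g⁻¹ ∉ A := fun g hg x hx e =>
    hx ((mem_normalizer_iff.1 (h.nA hg) x).2 e)
  have nc : ∀ g ∈ L, g * t * g⁻¹ ∉ Q := by
    intro g hg hq
    have uq := uq_conj h.uq (h.nA hg)
    have t2 : g * t * g⁻¹ * (g * t * g⁻¹) = 1 := cj_sq h.tt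
    have tA' := cjA g hg t h.tA
    set t' := g * t * g⁻¹
    have h1 : t' * y = y * t' := mem_centralizer_singleton_iff.1 hq.2
    have hz : z ∈ A ⊓ centralizer {t'} :=
      ⟨h.zS.2, mem_centralizer_singleton_iff.2 (h.zc hq.1).symm⟩
    have h2 : t' * y = 1 ∨ t' * y = z := by
      by_cases e : t' * y = 1
      · exact Or.inl e
      · refine Or.inr (uq _ ⟨h.mulA (h.syl.le hq.1) (h.syl.le yT) tA' yA,
          mem_centralizer_singleton_iff.2 (by rw [mul_assoc, ← h1])⟩ z hz ?_ h.zz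
          (h.zc (T.mul_mem hq.1 yT)) e h.z1)
        calc t' * y * (t' * y) = t' * (y * t') * y := by group
          _ = t' * t' * (y * y) := by rw [← h1]; group
          _ = 1 := by rw [t2, yy, one_mul]
    have h3 : s * t' = t' * s := by
      have e1 : t' = t' * y * y := by rw [mul_assoc, yy, mul_one]
      have e2 : y * s = s * y := mul_inv_eq_iff_eq_mul.1 ys
      rw [e1]
      rcases h2 with e | e <;> rw [e]
      · rw [one_mul, e2]
      · rw [mul_assoc, e2, ← mul_assoc, h.zc hs.1, mul_assoc]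
    exact hsC (uq s ⟨hs.2, mem_centralizer_singleton_iff.2 h3⟩ z hz hs2 h.zz (h.zc hs.1)
      (fun e => hsC (e ▸ one_mem _)) h.z1 ▸ c.zC)
  have tQ : t ∉ Q := by simpa using nc 1 (one_mem L)
  have zpw : ∀ j : ℤ, z ^ (2 * j) = 1 := fun j => by rw [zpow_mul, zpow_two, h.zz, one_zpow]
  have yr : y * r * y⁻¹ = r * z := by
    refine (yS r c.rS).resolve_left fun e => ?_
    obtain ⟨j, hj⟩ := hc0
    have hj' : r ^ j = c0 := hj
    have h1 : y * c0 * y⁻¹ = c0 := by rw [← hj', ← conj_zpow, e]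
    rw [yC c0 ⟨j, hj⟩, e0] at h1
    exact h.z1 (by simpa using h1)
  have crz : Commute r z := h.zc c.rS.1
  have par : ∀ i : ℤ, y * r ^ i * y⁻¹ = r ^ i * z ^ i := fun i => by
    rw [← conj_zpow, yr, crz.mul_zpow]
  have tr : t * r * t⁻¹ = r⁻¹ := by
    have h1 : u * c0 * u⁻¹ = c0⁻¹ * z := by
      calc u * c0 * u⁻¹ = (u * c0 * (u * c0)) * c0⁻¹ * (u * u)⁻¹ := by group
        _ = _ := by rw [← es, hs2, h.uu, zi, one_mul]
    have h2 : t * c0 * t⁻¹ = c0⁻¹ := by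
      rw [← inv_inj, inv_inv]
      calc (t * c0 * t⁻¹)⁻¹ = t * (c0⁻¹ * z) * t⁻¹ * (t * z * t⁻¹)⁻¹ := by group
        _ = t * u * c0 * (t * u)⁻¹ * z⁻¹ := by rw [← h1, h.zc h.tT]; group
        _ = c0 := by rw [e0]; group
    refine conj_eq_inv_of_mem_zpowers h2 ?_
    obtain ⟨j, hj⟩ := hc0
    have hj' : r ^ j = c0 := hj
    have hodd : Odd j := by
      refine Int.not_even_iff_odd.1 fun ⟨k, hk⟩ => ?_
      have h3 := par j
      rw [hj', yC c0 ⟨j, hj⟩, e0, hk, ← two_mul, zpw] at h3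
      exact h.z1 (by simpa using h3)
    rw [← hj', mem_zpowers_zpow_iff]
    obtain ⟨n, hn⟩ := IsPGroup.iff_orderOf.1 c.pg ⟨r, c.rS.1⟩
    have hn' : orderOf r = 2 ^ n := by rw [← hn, ← orderOf_coe]
    rw [hn', ← Int.isCoprime_iff_gcd_eq_one]
    push_cast
    exact (Int.isCoprime_two_right.2 hodd).pow_right
  have key : ∀ g ∈ L, g * y * g⁻¹ ∈ T → g * y * g⁻¹ ∈ Q := by
    intro g hg h1
    by_contra h2
    have y2 : g * y * g⁻¹ * (g * y * g⁻¹) = 1 := cj_sq yy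
    have yA' := cjA g hg y yA
    obtain ⟨y', yd'⟩ : ∃ y', y' = g * y * g⁻¹ := ⟨_, rfl⟩
    rw [← yd'] at h1 h2 y2 yA'
    have mS : t * y' ∈ T ⊓ A :=
      ⟨T.mul_mem h.tT h1, h.mulA (h.syl.le h.tT) (h.syl.le h1) h.tA yA'⟩
    have mQ' := ixQ _ h.tT _ h1 tQ h2
    have mC : t * y' ∈ zpowers r := by
      by_contra h3
      have h4 : y' * w * y'⁻¹ = w := by
        calc y' * w * y'⁻¹ = (t * t) * y' * w * y'⁻¹ * (t * t)⁻¹ := by rw [h.tt]; group
          _ = t * (t * y' * w * (t * y')⁻¹) * t⁻¹ := by group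
          _ = (t * w * t⁻¹)⁻¹ := by rw [c.inv _ mS h3]; group
          _ = w := by rw [tw, inv_inv]
      have yw : y * w * y⁻¹ = w := by rw [yC w c.wC, y0w]
      have h5 : y * y' ∈ zpowers r := c.mem_of
        ⟨T.mul_mem yT h1, h.mulA (h.syl.le yT) (h.syl.le h1) yA yA'⟩ (by
          calc _ = y * (y' * w * y'⁻¹) * y⁻¹ := by group
            _ = w := by rw [h4, yw])
      have e1 : y' = y * (y * y') := by rw [← mul_assoc, yy, one_mul]
      have yQ : y ∈ Q := (mQ y yT).2 (by group)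
      rcases c.small yw h5 (by
        rw [← mul_assoc, yy, one_mul, mul_inv_rev y y', inv_eq_of_mul_eq_one_right y2]) with e | e
      · exact h2 (by rw [e1, e, mul_one]; exact yQ)
      · exact h2 (by
          rw [e1, e]; exact mul_mem yQ ((mQ z h.zS.1).2 (mul_inv_eq_iff_eq_mul.2 (h.zc yT))))
    obtain ⟨i, hi⟩ := mC
    have hi' : r ^ i = t * y' := hi
    have h6 := (mQ _ mS.1).1 mQ'
    rw [← hi', par] at h6
    rcases Int.even_or_odd' i with ⟨k, rfl | rfl⟩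
    · have e2 : y' = r ^ (-k) * t * (r ^ (-k))⁻¹ := by
        calc y' = t * (t * y') := by rw [← mul_assoc, h.tt, one_mul]
          _ = (t * r ^ k * t⁻¹) * t * r ^ k := by rw [← hi']; group
          _ = _ := by rw [conj_zpow_eq_inv tr]; group
      refine nc (g⁻¹ * r ^ (-k)) (mul_mem (inv_mem hg) (zpow_mem (h.syl.le c.rS.1) _)) ?_
      have : g⁻¹ * r ^ (-k) * t * (g⁻¹ * r ^ (-k))⁻¹ = y := by
        calc _ = g⁻¹ * (r ^ (-k) * t * (r ^ (-k))⁻¹) * g := by group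
          _ = y := by rw [← e2, yd']; group
      rw [this]; exact (mQ y yT).2 (by group)
    · rw [zpow_add z, zpw, one_mul, zpow_one] at h6
      exact h.z1 (by simpa using h6)
  have := ttq h.perf h.AL h.syl (fun a ha b hb => ixQ.comm inf_le_left ha hb) (h.syl.le h.tT)
    (h.syl.le yT) h.tt yy (h.mulA (h.syl.le (inv_mem h.tT)) (h.syl.le yT)
      (fun e => h.tA (inv_mem_iff.1 e)) yA) h.tT (one_mem T) (ixQ.sq h.tT) (by simpa using one_mem Q)
    (fun g hg h1 => ixQ _ (inv_mem h.tT) _ h1 (fun e => tQ (inv_mem_iff.1 e)) (nc g hg))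
    (fun g hg h1 => by simpa using key g hg h1)
  rw [mul_one, inv_mem_iff] at this
  exact tQ this

section two
variable {E : Subgroup G} {e : G} (hK : IsKleinFour E) (hE : E ≤ T ⊓ A) (hn : T ≤ 𝐍[E])
  (he : e ∈ E) (e1 : e ≠ 1) (ez : e ≠ z)
include hK hE hn he e1 ez

theorem zE : z ∈ E :=
  (h.z_mem hE hn (fun e => by have := hK.card_four; rw [e] at this; simp at this)).1

theorem mE {x : G} (hx : x ∈ E) : x = 1 ∨ x = e ∨ x = z ∨ x = e * z :=
  Klein.cases hK he (h.zE hK hE hn he e1 ez) hx e1 h.z1 ez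

theorem ce {g : G} (hg : g ∈ T) : g * e * g⁻¹ = e ∨ g * e * g⁻¹ = e * z := by
  rcases h.mE hK hE hn he e1 ez (conj_mem_of_mem_normalizer (hn hg) he) with h1 | h1 | h1 | h1
  · exact absurd (conj_eq_one_iff.1 h1) e1
  · exact Or.inl h1
  · exact absurd (mul_left_cancel (mul_right_cancel
      (h1.trans (mul_inv_eq_iff_eq_mul.2 (h.zc hg)).symm))) ez
  · exact Or.inr h1

theorem te : t * e * t⁻¹ = e * z := (h.ce hK hE hn he e1 ez h.tT).resolve_left fun h1 =>
  (h.inv_eq (hE he) h1 (Klein.mul_self hK he)).elim e1 ez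

theorem sqe {g : G} (hg : g ∈ T) : g * g * e = e * (g * g) := by
  rw [← mul_inv_eq_iff_eq_mul]
  have e2 : g * g * e * (g * g)⁻¹ = g * (g * e * g⁻¹) * g⁻¹ := by group
  rw [e2]
  rcases h.ce hK hE hn he e1 ez hg with h1 | h1
  · rw [h1, h1]
  · calc _ = g * e * g⁻¹ * (g * z * g⁻¹) := by nth_rw 1 [h1]; group
      _ = e := by rw [h1, h.zc hg, mul_inv_cancel_right, mul_assoc, h.zz, mul_one]

theorem fp {g : G} (hg : g ∈ T ⊓ A) (h1 : g⁻¹ * (t * g * t⁻¹) ∈ E) :
    g ∈ zpowers u ∨ g * e ∈ zpowers u := by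
  have te := h.te hK hE hn he e1 ez
  have ee := Klein.mul_self hK he
  have h2 : t * (g⁻¹ * (t * g * t⁻¹)) * t⁻¹ = g⁻¹ * (t * g * t⁻¹) := by
    calc _ = (t * g * t⁻¹)⁻¹ * ((t * t) * g * (t * t)⁻¹) := by group
      _ = (g⁻¹ * (t * g * t⁻¹))⁻¹ := by rw [h.tt]; group
      _ = _ := inv_eq_of_mul_eq_one_right (Klein.mul_self hK h1)
  rcases h.inv_eq (hE h1) h2 (Klein.mul_self hK h1) with h3 | h3
  · exact Or.inl (h.cen g hg (inv_mul_eq_one.1 h3).symm)
  · refine Or.inr (h.cen _ (mul_mem hg (hE he)) ?_)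
    calc t * (g * e) * t⁻¹ = g * (g⁻¹ * (t * g * t⁻¹)) * (t * e * t⁻¹) := by group
      _ = g * e * (z * z) := by rw [h3, te, mul_assoc g z, ← mul_assoc z, ← h.zc (hE he).1]; group
      _ = g * e := by rw [h.zz, mul_one]

theorem caseF (hF : ∀ g ∈ T ⊓ A, g ∈ zpowers u ∨ g * e ∈ zpowers u) : False := by
  have ee := Klein.mul_self hK he
  have ix := ixE (S := T ⊓ A) ee h.zu (fun g hg => h.ce hK hE hn he e1 ez hg.1) hF
  have tn : t ∈ 𝐍[zpowers u] := centralizer_le_normalizer' _ (by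
    rw [centralizer_zpowers]; exact mem_centralizer_singleton_iff.2 (mul_inv_eq_iff_eq_mul.1 h.ut))
  have key := fun y => h.lemY' (s := e) (y := y) (zpowers_le.2 h.uS) ix tn (fun _ => h.zc) h.zu
    (fun w hw h2 => cyc_uniq hw h.zu h2 h.zz h.z1) (hE he).2
    (fun h1 => (cyc_uniq h1 h.zu ee h.zz h.z1).elim e1 ez) ee
  rcases h.ce hK hE hn he e1 ez h.uS.1 with h1 | h1
  · exact key u h.uS.1 (mul_inv_eq_iff_eq_mul.1 h1) h.uu
  · refine key (t * u) (T.mul_mem h.tT h.uS.1) ?_ ?_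
    · rw [← mul_inv_eq_iff_eq_mul]
      calc t * u * e * (t * u)⁻¹ = t * (u * e * u⁻¹) * t⁻¹ := by group
        _ = t * e * t⁻¹ * (t * z * t⁻¹) := by rw [h1]; group
        _ = e := by
          rw [h.te hK hE hn he e1 ez, h.zc h.tT, mul_inv_cancel_right, mul_assoc, h.zz, mul_one]
    · calc t * u * (t * u) = t * u * t⁻¹ * u := by rw [h.ti]; group
        _ = z := by rw [h.ut, h.uu]

theorem exists_x (hF : ¬ ∀ g ∈ T ⊓ A, g ∈ zpowers u ∨ g * e ∈ zpowers u) :
    ∃ x ∈ T, Ix (zpowers x ⊔ E) T ∧ t ∉ zpowers x ⊔ E ∧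
      ∃ k : ℕ, (x * x) ^ 2 ^ k ∉ E ∧ ((x * x) ^ 2 ^ k)⁻¹ * (t * (x * x) ^ 2 ^ k * t⁻¹) ∈ E := by
  have : Fact (Nat.Prime 2) := ⟨Nat.prime_two⟩
  have := normal_subgroupOf' hn
  let π : T →* T ⧸ E.subgroupOf T := QuotientGroup.mk' _
  have hπ : ∀ a b : T, π a = π b ↔ (a : G)⁻¹ * b ∈ E := fun a b => QuotientGroup.eq
  have hπ1 : ∀ a : T, π a = 1 ↔ (a : G) ∈ E := fun a => QuotientGroup.eq_one_iff a
  have hs : Function.Surjective π := QuotientGroup.mk'_surjective _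
  have hP : IsPGroup 2 (T ⧸ E.subgroupOf T) := h.syl.pgrp.to_quotient _
  let t' := π ⟨t, h.tT⟩
  let u' := π ⟨u, h.uS.1⟩
  have tt : t' * t' = 1 := by
    rw [← map_mul, hπ1]; show t * t ∈ E; rw [h.tt]; exact one_mem E
  have uu : u' * u' = 1 := by
    rw [← map_mul, hπ1]; exact h.uu ▸ h.zE hK hE hn he e1 ez
  have tu : t' * u' = u' * t' := by
    rw [← map_mul, ← map_mul]; exact congrArg π (Subtype.ext (mul_inv_eq_iff_eq_mul.1 h.ut))
  have t1 : t' ≠ 1 := fun h1 => h.tA (hE ((hπ1 _).1 h1)).2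
  have u1 : u' ≠ 1 := fun h1 => h.z1 (h.uu.symm.trans (Klein.mul_self hK ((hπ1 _).1 h1)))
  have tu1 : t' ≠ u' := fun h1 => h.tA (by
    have := (hE ((hπ _ _).1 h1.symm)).2
    exact (mul_mem_cancel_left (A.inv_mem h.uS.2)).1 this)
  have hV := Misc.isKleinFour_closure_pair tt uu tu t1 u1 tu1
  set V := closure {t', u'}
  have tV : t' ∈ V := subset_closure (by simp)
  have uV : u' ∈ V := subset_closure (by simp)
  have cS : ∀ g : T, (g : G) ∈ A → π g * t' = t' * π g → π g ∈ zpowers u' := by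
    intro g hg h1
    have h2 : (g : G)⁻¹ * (t * g * t⁻¹) ∈ E := (hπ g (⟨t, h.tT⟩ * g * (⟨t, h.tT⟩ : T)⁻¹)).1 (by
      rw [map_mul, map_mul, map_inv, ← h1, mul_inv_cancel_right])
    rcases h.fp hK hE hn he e1 ez ⟨g.2, hg⟩ h2 with ⟨i, h3⟩ | ⟨i, h3⟩
    · exact ⟨i, by beta_reduce; rw [← map_zpow]; exact congrArg π (Subtype.ext h3)⟩
    · refine ⟨i, ?_⟩
      beta_reduce
      rw [← map_zpow, eq_comm, hπ]
      have h4 : u ^ i = g * e := h3
      simpa [h4] using he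
  have cV : ∀ g, g * t' = t' * g → g ∈ V := by
    intro g h1
    obtain ⟨g, rfl⟩ := hs g
    rcases h.cas g (h.syl.le g.2) with h2 | h2
    · exact zpowers_le.2 uV (cS g h2 h1)
    · have := zpowers_le.2 uV (cS (g * ⟨t, h.tT⟩) h2 (by
        rw [map_mul, ← mul_assoc, ← h1]))
      rw [map_mul] at this
      exact (mul_mem_cancel_right tV).1 this
  have hC : centralizer (V : Set _) = V :=
    le_antisymm (fun g hg => cV g (hg t' tV).symm) fun g hg x hx => Klein.comm hV hx hg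
  obtain ⟨n, hn'⟩ := IsPGroup.iff_card.1 hP
  have h3 : 3 ≤ n := by
    by_contra h3
    apply hF
    have : V = ⊤ := eq_of_le_of_card_ge le_top (by
      rw [card_top, hn', hV.card_four]
      exact Nat.pow_le_pow_right (n := 2) (by norm_num) (show n ≤ 2 by omega))
    intro g hg
    refine h.fp hK hE hn he e1 ez hg ((hπ ⟨g, hg.1⟩ (⟨t, h.tT⟩ * ⟨g, hg.1⟩ * (⟨t, h.tT⟩ : T)⁻¹)).1 ?_)
    rw [map_mul, map_mul, map_inv, Klein.comm hV tV (this ▸ mem_top _), mul_inv_cancel_right]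
  obtain ⟨C, hcyc, hi⟩ := S0113.result n h3 hn' (S0112.result n hn' V hV.card_four hC)
  obtain ⟨x', hx'⟩ := (Subgroup.isCyclic_iff_exists_zpowers_eq_top C).1 hcyc
  obtain ⟨x, rfl⟩ := hs x'
  subst hx'
  have hx2 : π x * π x ≠ 1 := fun h4 => by
    have h5 := (zpowers (π x)).index_mul_card
    rw [hi, hn', Nat.card_zpowers] at h5
    have h6 := Nat.le_of_dvd two_pos (orderOf_dvd_of_pow_eq_one (x := π x) (n := 2) (by rwa [sq]))
    have h7 : 2 ^ 3 ≤ 2 ^ n := Nat.pow_le_pow_right (by norm_num) h3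
    omega
  have mX : ∀ g : T, (g : G) ∈ zpowers (x : G) ⊔ E ↔ π g ∈ zpowers (π x) := fun g => by
    rw [mem_sup_of_le_normalizer_right (zpowers_le.2 (hn x.2))]
    constructor
    · rintro ⟨_, ⟨i, rfl⟩, b, hb, h4⟩
      refine ⟨i, ?_⟩
      beta_reduce
      rw [← map_zpow, hπ]
      simpa [h4] using hb
    · rintro ⟨i, h4⟩
      beta_reduce at h4
      rw [← map_zpow, hπ] at h4
      exact ⟨_, ⟨i, rfl⟩, _, h4, by simp⟩
  have tC : t' ∉ zpowers (π x) := fun h4 =>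
    hx2 (Klein.mul_self hV (cV _ (cyc_comm (mem_zpowers _) h4)))
  refine ⟨x, x.2, fun a ha b hb h1 h2 => ?_, fun h1 => tC ((mX ⟨t, h.tT⟩).1 h1), ?_⟩
  · refine (mX (⟨a, ha⟩ * ⟨b, hb⟩)).2 ?_
    rw [map_mul, mul_mem_iff_of_index_two hi]
    exact iff_of_false (mt (mX ⟨a, ha⟩).2 h1) (mt (mX ⟨b, hb⟩).2 h2)
  · obtain ⟨k, h4, h5⟩ := Grp.exists_pow_not_mem_pow_mem hP (A := ⊥) (g := π x * π x)
      (by simpa using hx2)
    rw [mem_bot] at h4 h5
    have e2 : (π x * π x) ^ 2 ^ k = π ((x * x) ^ 2 ^ k) := by rw [map_pow, map_mul]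
    have h6 : (π x * π x) ^ 2 ^ k ∈ zpowers (π x) :=
      pow_mem (mul_mem (mem_zpowers _) (mem_zpowers _)) _
    have := (zpowers (π x)).normal_of_index_eq_two hi
    refine ⟨k, fun h7 => h4 (e2.trans ((hπ1 _).2 h7)),
      (hπ ((x * x) ^ 2 ^ k) (⟨t, h.tT⟩ * (x * x) ^ 2 ^ k * (⟨t, h.tT⟩ : T)⁻¹)).1 ?_⟩
    rw [map_mul, map_mul, map_inv, ← e2]
    rw [sq] at h5
    exact ((cyc_uniq (this.conj_mem _ h6 t') h6 (cj_sq h5) h5 h4).resolve_left
      (by rwa [conj_eq_one_iff])).symm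

theorem caseII : False := by
  have : Fact (Nat.Prime 2) := ⟨Nat.prime_two⟩
  by_cases hF : ∀ g ∈ T ⊓ A, g ∈ zpowers u ∨ g * e ∈ zpowers u
  · exact h.caseF hK hE hn he e1 ez hF
  obtain ⟨x, xT, ixX, tX, k, hk1, hk2⟩ := h.exists_x hK hE hn he e1 ez hF
  have ee := Klein.mul_self hK he
  have zE := h.zE hK hE hn he e1 ez
  have mE := fun x => h.mE hK hE hn he e1 ez (x := x)
  have ce := fun x => h.ce hK hE hn he e1 ez (g := x)
  have te := h.te hK hE hn he e1 ez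
  have zi : z⁻¹ = z := inv_eq_of_mul_eq_one_right h.zz
  have eS := hE he
  have sqA : ∀ g ∈ T, g * g ∈ T ⊓ A := fun g hg => ⟨T.mul_mem hg hg, by
    by_cases h1 : g ∈ A
    · exact A.mul_mem h1 h1
    · exact h.mulA (h.syl.le hg) (h.syl.le hg) h1 h1⟩
  obtain ⟨a, ad⟩ : ∃ a, a = x * x := ⟨_, rfl⟩
  have aS : a ∈ T ⊓ A := ad ▸ sqA x xT
  have ae : a * e = e * a := ad ▸ h.sqe hK hE hn he e1 ez xT
  have cxa : Commute x a := ad ▸ (Commute.refl x).mul_right (Commute.refl x)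
  have ax : a ∈ zpowers x := ad ▸ mul_mem (mem_zpowers x) (mem_zpowers x)
  rw [← ad] at hk1 hk2
  obtain ⟨w, wd⟩ : ∃ w, w = a ^ 2 ^ k := ⟨_, rfl⟩
  have wa : w ∈ zpowers a := wd ▸ pow_mem (mem_zpowers a) _
  have wS : w ∈ T ⊓ A := zpowers_le.2 aS wa
  have cae : ∀ c ∈ zpowers a, c * e = e * c := by
    rintro _ ⟨k, rfl⟩; exact ((show Commute a e from ae).zpow_left k).eq
  have we := cae w wa
  rw [← wd] at hk1 hk2
  have p4 : ∀ u : G, u * u = z → ∀ y ∈ zpowers u, y * y * (y * y) = 1 := by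
    rintro u hu _ ⟨i, rfl⟩
    have h4 : u ^ (4 : ℤ) = 1 := by
      rw [← h.zz, ← hu, show (4 : ℤ) = 2 + 2 by rfl, zpow_add, zpow_two]
    calc u ^ i * u ^ i * (u ^ i * u ^ i) = (u ^ (4 : ℤ)) ^ i := by group
      _ = 1 := by rw [h4, one_zpow]
  have u4 := fun y (hy : y ∈ zpowers u) =>
    cyc_four (mem_zpowers u) h.uu h.zz h.z1 hy (p4 u h.uu y hy)
  have ui : u⁻¹ * u⁻¹ = z := by rw [← mul_inv_rev, h.uu, zi]
  have sqe : ∀ g, g * e = e * g → g * e * (g * e) = g * g := fun g hg => by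
    calc g * e * (g * e) = g * (e * g) * e := by group
      _ = g * g * (e * e) := by rw [← hg]; group
      _ = g * g := by rw [ee, mul_one]
  have hwu : w * w = z ∧ (u ∈ zpowers w ∨ u ∈ zpowers (w * e)) := by
    rcases h.fp hK hE hn he e1 ez wS hk2 with h1 | h1
    · rcases u4 _ h1 with h2 | h2 | h2 | h2
      · exact absurd (h2 ▸ one_mem E) hk1
      · exact absurd (h2 ▸ zE) hk1
      · exact ⟨h2 ▸ h.uu, Or.inl (h2 ▸ mem_zpowers _)⟩
      · exact ⟨h2 ▸ ui, Or.inl (by rw [h2]; simpa using mem_zpowers u)⟩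
    · rw [← sqe w we]
      rcases u4 _ h1 with h2 | h2 | h2 | h2
      · exact absurd ((mul_mem_cancel_right he).1 (h2 ▸ one_mem E)) hk1
      · exact absurd ((mul_mem_cancel_right he).1 (h2 ▸ zE)) hk1
      · exact ⟨h2 ▸ h.uu, Or.inr (h2 ▸ mem_zpowers _)⟩
      · exact ⟨h2 ▸ ui, Or.inr (by rw [h2]; simpa using mem_zpowers u)⟩
  obtain ⟨ww, hu⟩ := hwu
  have zw : z ∈ zpowers w := ww ▸ mul_mem (mem_zpowers w) (mem_zpowers w)
  have za : z ∈ zpowers a := zpowers_le.2 wa zw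
  have cen : ∀ c, c * e = e * c → e ∈ 𝐍[zpowers c] := fun c hc => centralizer_le_normalizer' _ (by
    rw [centralizer_zpowers]; exact mem_centralizer_singleton_iff.2 hc.symm)
  have fp : ∀ g ∈ T ⊓ A, g⁻¹ * (t * g * t⁻¹) ∈ E → g ∈ zpowers w ∨ g * e ∈ zpowers w := by
    intro g hg h1
    have h2 : zpowers u ≤ zpowers w ⊔ zpowers e := zpowers_le.2 (hu.elim (fun h => mem_sup_left h)
      fun h => zpowers_le.2 (mul_mem (mem_sup_left (mem_zpowers w))
        (mem_sup_right (mem_zpowers e))) h)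
    refine cas_sup ee (cen w we) g ?_
    rcases h.fp hK hE hn he e1 ez hg h1 with h3 | h3
    · exact h2 h3
    · exact (mul_mem_cancel_right (mem_sup_right (mem_zpowers e))).1 (h2 h3)
  have mX : ∀ g ∈ zpowers x ⊔ E, ∀ M : Subgroup G, z ∈ M → (∀ i : ℤ, (x ^ i)⁻¹ * g ∈ E → x ^ i ∈ M) →
      g ∈ M ∨ g * e ∈ M := by
    intro g hg M hz hM
    obtain ⟨_, ⟨i, rfl⟩, b, hb, rfl⟩ :=
      (mem_sup_of_le_normalizer_right (zpowers_le.2 (hn xT))).1 hg
    have h1 := hM i (by simpa using hb)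
    beta_reduce
    rcases mE b hb with rfl | rfl | rfl | rfl
    · exact Or.inl (by simpa using h1)
    · exact Or.inr (by rw [mul_assoc, ee, mul_one]; exact h1)
    · exact Or.inl (mul_mem h1 hz)
    · exact Or.inr (by
        rw [mul_assoc, mul_assoc, ← h.zc eS.1, ← mul_assoc e, ee, one_mul]; exact mul_mem h1 hz)
  have xX : x ∈ zpowers x ⊔ E := mem_sup_left (mem_zpowers x)
  have cu : ∀ c, z ∈ zpowers c → e ∉ zpowers c := fun c hc h1 =>
    (cyc_uniq h1 hc ee h.zz h.z1).elim e1 ez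
  by_cases xA : x ∈ A
  · have XA : zpowers x ⊔ E ≤ A := sup_le (zpowers_le.2 xA) (hE.trans inf_le_right)
    have zx := zpowers_le.2 ax za
    refine h.lemY'' (M := zpowers x) (zpowers_le.2 ⟨xT, xA⟩) (ixE ee zx (fun g hg => ce g hg.1)
      fun g hg => mX g ?_ _ zx fun i _ => zpow_mem (mem_zpowers x) i) (fun _ => h.zc) zx
      (fun w hw h2 => cyc_uniq hw zx h2 h.zz h.z1) eS.2 (cu x zx) ee wS we ww
    by_contra h1
    exact h.tA ((A.mul_mem_cancel_left hg.2).1 (XA (ixX _ hg.1 _ h.tT h1 tX)))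
  obtain ⟨v, vd⟩ : ∃ v, v = x * t := ⟨_, rfl⟩
  have vS : v ∈ T ⊓ A :=
    vd ▸ ⟨T.mul_mem xT h.tT, h.mulA (h.syl.le xT) (h.syl.le h.tT) xA h.tA⟩
  have vX : v ∉ zpowers x ⊔ E := fun h1 => tX ((mul_mem_cancel_left xX).1 (vd ▸ h1))
  have aX : zpowers a ≤ zpowers x ⊔ E := (zpowers_le.2 ax).trans le_sup_left
  have eX : e ∈ zpowers x ⊔ E := mem_sup_right he
  have XB : ∀ g ∈ T ⊓ A, g ∈ zpowers x ⊔ E → g ∈ zpowers a ∨ g * e ∈ zpowers a := by
    intro g hg h1
    refine mX g h1 _ za fun i h2 => ?_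
    have e2 : ∀ j : ℤ, x ^ (2 * j) = a ^ j := fun j => by rw [zpow_mul, zpow_two, ad]
    rcases Int.even_or_odd' i with ⟨j, rfl | rfl⟩
    · rw [e2]; exact zpow_mem (mem_zpowers a) j
    · have h3 := A.inv_mem_iff.1 ((A.mul_mem_cancel_right hg.2).1 (hE h2).2)
      rw [zpow_add, e2, zpow_one] at h3
      exact absurd ((mul_mem_cancel_left (A.zpow_mem aS.2 j)).1 h3) xA
  have BX : ∀ g, g ∈ zpowers a ∨ g * e ∈ zpowers a → g ∈ zpowers x ⊔ E := fun g h1 =>
    h1.elim (fun h1 => aX h1) fun h1 => (mul_mem_cancel_right eX).1 (aX h1)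
  have cov : ∀ v' ∈ T ⊓ A, v' ∉ zpowers x ⊔ E → ∀ g ∈ T ⊓ A,
      (g ∈ zpowers a ∨ g * e ∈ zpowers a) ∨ (v' * g ∈ zpowers a ∨ v' * g * e ∈ zpowers a) := by
    intro v' h1 h2 g hg
    by_cases h3 : g ∈ zpowers x ⊔ E
    · exact Or.inl (XB g hg h3)
    · exact Or.inr (XB _ (mul_mem h1 hg) (ixX _ h1.1 _ hg.1 h2 h3))
  have txt : t * x * t⁻¹ = x⁻¹ * (v * v) := by rw [vd, h.ti]; group
  have vav : v * a * v⁻¹ = v * v * (x⁻¹ * (v * v) * x) * a⁻¹ := by
    calc v * a * v⁻¹ = x * (t * x * t⁻¹ * (t * x * t⁻¹)) * x⁻¹ := by rw [ad]; nth_rw 1 [vd, vd]; group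
      _ = _ := by rw [txt, ad]; group
  have cxc : ∀ c ∈ zpowers a, x⁻¹ * c * x = c := fun c hc => by
    rw [mul_assoc, cyc_comm (zpowers_le.2 ax hc) (mem_zpowers x), inv_mul_cancel_left]
  have hf : v * v ∈ zpowers w ∨ v * v * e ∈ zpowers w := by
    refine fp _ (mul_mem vS vS) ?_
    have e2 : t * (v * v) * t⁻¹ = x⁻¹ * (v * v) * x := by
      calc t * (v * v) * t⁻¹ = t * x * t⁻¹ * x * (t * t⁻¹) := by rw [vd]; nth_rw 2 [h.ti]; group
        _ = _ := by rw [txt]; group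
    rw [e2]
    rcases XB _ (mul_mem vS vS) (ixX.sq vS.1) with h1 | h1
    · rw [cxc _ h1, inv_mul_cancel]; exact one_mem E
    · have e3 : (v * v)⁻¹ * (x⁻¹ * (v * v) * x) =
          e * (v * v * e)⁻¹ * (x⁻¹ * (v * v * e) * x) * (x⁻¹ * e * x⁻¹⁻¹)⁻¹ := by group
      rw [e3, cxc _ h1, inv_mul_cancel_right]
      exact mul_mem he (inv_mem (conj_mem_of_mem_normalizer (hn (inv_mem xT)) he))
  have w4 := fun y (hy : y ∈ zpowers w) => cyc_four (mem_zpowers w) ww h.zz h.z1 hy (p4 w ww y hy)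
  have wi : w⁻¹ * w⁻¹ = z := by rw [← mul_inv_rev, ww, zi]
  have az : a * z = z * a := h.zc aS.1
  have quat : ∀ v' ∈ T ⊓ A, v' ∉ zpowers x ⊔ E → v' * v' = z → v' * a * v'⁻¹ = a⁻¹ → False := by
    intro v' h1 h2 h3 h4
    have hm := cas_sup' (h3 ▸ za) (mem_normalizer_zpowers_of_conj_eq_inv h4)
    have uq : ∀ g ∈ zpowers a ⊔ zpowers v', g * g = 1 → g = 1 ∨ g = z := fun g hg g2 => by
      rcases hm g hg with h5 | h5
      · exact cyc_uniq h5 za g2 h.zz h.z1
      · exfalso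
        apply h.z1
        calc z = v' * (g * g) * v' := by rw [g2, mul_one, h3]
          _ = v' * (g * v') * v'⁻¹ * (v' * v'⁻¹ * (g * v')) := by group
          _ = 1 := by rw [conj_eq_inv_of_mem_zpowers h4 h5]; group
    have hv := mem_sup_right (S := zpowers a) (mem_zpowers v')
    refine h.lemY'' (M := zpowers a ⊔ zpowers v') (sup_le (zpowers_le.2 aS) (zpowers_le.2 h1))
      (ixE ee (mem_sup_left za) (fun g hg => ce g hg.1) fun g hg => ?_) (fun _ => h.zc)
      (mem_sup_left za) uq eS.2 (fun h5 => (uq e h5 ee).elim e1 ez) ee wS we ww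
    rcases cov v' h1 h2 g hg with (h5 | h5) | h5 | h5
    · exact Or.inl (mem_sup_left h5)
    · exact Or.inr (mem_sup_left h5)
    · exact Or.inl ((mul_mem_cancel_left hv).1 (mem_sup_left h5))
    · exact Or.inr ((mul_mem_cancel_left hv).1 (by rw [← mul_assoc]; exact mem_sup_left h5))
  rcases hf with hf | hf
  · rw [cxc _ (zpowers_le.2 wa hf)] at vav
    have four : v * v = w ∨ v * v = w⁻¹ → False := by
      intro h1
      have h2 : v * a * v⁻¹ = a⁻¹ * z := by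
        rw [vav, h.zc (inv_mem aS.1)]
        rcases h1 with h1 | h1 <;> rw [h1]
        · rw [ww]
        · rw [wi]
      have h3 : v * w * v⁻¹ = w := by
        rcases h1 with h1 | h1
        · rw [← h1]; group
        · rw [← inv_inv w, ← h1]; group
      have h4 : Commute a⁻¹ z := h.zc (inv_mem aS.1)
      rw [wd, ← conj_pow, h2, h4.mul_pow, inv_pow, ← wd] at h3
      rcases k with _ | k
      · rw [pow_zero, pow_one] at wd
        refine vX (BX v ?_)
        rw [← wd]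
        refine fp v vS ?_
        have e2 : v⁻¹ * (t * v * t⁻¹) = (v * v)⁻¹ * a := by
          calc v⁻¹ * (t * v * t⁻¹) = (t * t)⁻¹ * (t * x * t⁻¹)⁻¹ * (t * t) * x := by
                rw [vd]; group
            _ = _ := by rw [h.tt, txt, ad]; group
        rw [e2, ← wd]
        rcases h1 with h1 | h1 <;> rw [h1]
        · rw [inv_mul_cancel]; exact one_mem E
        · rw [inv_inv, ww]; exact zE
      · rw [pow_succ', pow_mul, sq z, h.zz, one_pow, mul_one, inv_eq_iff_mul_eq_one, ww] at h3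
        exact h.z1 h3
    rcases w4 _ hf with h1 | h1 | h1
    · rw [h1, one_mul, one_mul] at vav
      rcases ce v vS.1 with h2 | h2
      · exact dih h.perf h.sylS aS eS vS ee e1 ez (wd ▸ ww) h.zz h.z1 ae h1
          (mul_inv_eq_iff_eq_mul.1 h2) vav (cov v vS vX)
      · refine quat (v * e) (mul_mem vS eS) (fun h3 => vX ((mul_mem_cancel_right eX).1 h3)) ?_ ?_
        · calc v * e * (v * e) = v * e * v⁻¹ * (v * v) * e := by group
            _ = z := by rw [h2, h1, mul_one, h.zc eS.1, mul_assoc, ee, mul_one]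
        · calc v * e * a * (v * e)⁻¹ = v * (e * a * e⁻¹) * v⁻¹ := by group
            _ = a⁻¹ := by rw [← ae, mul_inv_cancel_right, vav]
    · rw [h1, h.zz, one_mul] at vav
      exact quat v vS vX h1 vav
    · exact four h1
  · obtain ⟨c, cd⟩ : ∃ c, c = v * v * e := ⟨_, rfl⟩
    rw [← cd] at hf
    have ca := zpowers_le.2 wa hf
    have fd : v * v = c * e := by rw [cd, mul_assoc _ e e, ee, mul_one]
    have fa : v * v ∉ zpowers a := fun h1 => cu a za ((mul_mem_cancel_left ca).1 (fd ▸ h1))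
    have vav' : v * a * v⁻¹ = c * c * (e * (x⁻¹ * e * x⁻¹⁻¹)) * a⁻¹ := by
      rw [vav, fd]
      calc _ = c * (e * (x⁻¹ * c * x)) * (x⁻¹ * e * x) * a⁻¹ := by group
        _ = _ := by rw [cxc c ca, ← cae c ca]; group
    have eg : ∀ g ∈ T, e * (g * e * g⁻¹) = 1 ∨ e * (g * e * g⁻¹) = z := fun g hg => by
      rcases ce g hg with h1 | h1 <;> rw [h1]
      · exact Or.inl ee
      · exact Or.inr (by rw [← mul_assoc, ee, one_mul])
    have eg' : ∀ g ∈ T, e * (g * e * g⁻¹) ∈ zpowers a := fun g hg => by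
      rcases eg g hg with h1 | h1 <;> rw [h1]
      · exact one_mem _
      · exact za
    have vn : v ∈ 𝐍[zpowers a] := mem_normalizer_of_cj_le (by
      rw [MonoidHom.map_zpowers, zpowers_le]
      show v * a * v⁻¹ ∈ zpowers a
      rw [vav']
      exact mul_mem (mul_mem (mul_mem ca ca) (eg' _ (inv_mem xT))) (inv_mem (mem_zpowers a)))
    have hv := mem_sup_right (S := zpowers a) (mem_zpowers v)
    have he' : e ∈ zpowers a ⊔ zpowers v :=
      (mul_mem_cancel_left (mem_sup_left ca)).1 (fd ▸ mul_mem hv hv)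
    have cov' : T ⊓ A ≤ zpowers a ⊔ zpowers v := fun g hg => by
      rcases cov v vS vX g hg with (h5 | h5) | h5 | h5
      · exact mem_sup_left h5
      · exact (mul_mem_cancel_right he').1 (mem_sup_left h5)
      · exact (mul_mem_cancel_left hv).1 (mem_sup_left h5)
      · exact (mul_mem_cancel_left hv).1 ((mul_mem_cancel_right he').1 (mem_sup_left h5))
    have cm : ∀ g ∈ T ⊓ A, ∀ g' ∈ T ⊓ A, g * g' * g⁻¹ * g'⁻¹ ∈ zpowers a := fun g hg g' hg' => by
      obtain ⟨m, hm, _, ⟨i, rfl⟩, rfl⟩ :=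
        (mem_sup_of_le_normalizer_left (zpowers_le.2 vn)).1 (cov' hg)
      obtain ⟨m', hm', _, ⟨j, rfl⟩, rfl⟩ :=
        (mem_sup_of_le_normalizer_left (zpowers_le.2 vn)).1 (cov' hg')
      have : m * v ^ i * (m' * v ^ j) * (m * v ^ i)⁻¹ * (m' * v ^ j)⁻¹ =
          m * (v ^ i * m' * (v ^ i)⁻¹) * (v ^ j * m⁻¹ * (v ^ j)⁻¹) * m'⁻¹ := by group
      beta_reduce
      rw [this]
      exact mul_mem (mul_mem (mul_mem hm (conj_mem_of_mem_normalizer (zpow_mem vn i) hm'))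
        (conj_mem_of_mem_normalizer (zpow_mem vn j) (inv_mem hm))) (inv_mem hm')
    have sqo : ∀ g ∈ T ⊓ A, g * g ∈ zpowers a ↔ g ∈ zpowers x ⊔ E := by
      have sqB : ∀ g ∈ T ⊓ A, g ∈ zpowers x ⊔ E → g * g ∈ zpowers a := fun g hg h1 => by
        rcases XB g hg h1 with h5 | h5
        · exact mul_mem h5 h5
        · have := sqe _ (cae _ h5)
          rw [mul_assoc g e e, ee, mul_one] at this
          rw [this]; exact mul_mem h5 h5
      refine fun g hg => ⟨fun h2 => ?_, sqB g hg⟩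
      by_contra h1
      have h4 := sqB _ (mul_mem vS hg) (ixX _ vS.1 _ hg.1 vX h1)
      have e2 : v * g * (v * g) =
          v * g * v⁻¹ * g⁻¹ * (g * (v * v) * g⁻¹ * (v * v)⁻¹) * (v * v) * (g * g) := by group
      rw [e2, mul_mem_cancel_right h2,
        mul_mem_cancel_left (mul_mem (cm v vS g hg) (cm g hg _ (mul_mem vS vS)))] at h4
      exact fa h4
    have inS : ∀ g ∈ T ⊓ A, g * g = 1 → g = 1 ∨ g = z ∨ g = e ∨ g = e * z := fun g hg g2 =>
      memB ee ae wa ww h.zz h.z1 (XB g hg ((sqo g hg).1 (g2 ▸ one_mem _))) g2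
    by_cases hfu : ¬ Fu A e z
    · have := ttq h.perf le_rfl h.sylS cm eS.2 (one_mem A) ee (one_mul 1)
        (by simpa using eS.2) eS (one_mem _) (ee ▸ one_mem _) (by simpa using one_mem _)
        (fun g hg h1 => by
          rcases inS _ h1 (cj_sq ee) with h2 | h2 | h2 | h2
          · exact absurd (conj_eq_one_iff.1 h2) e1
          · exact absurd ⟨g, hg, h2⟩ hfu
          · rw [h2, inv_mul_cancel]; exact one_mem _
          · rw [h2, inv_mul_cancel_left]; exact za)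
        (fun g _ _ => by simpa using one_mem _)
      rw [mul_one, inv_mem_iff] at this
      exact cu a za this
    rw [not_not] at hfu
    have zS' : ∀ s ∈ T ⊓ A, s * z = z * s := fun s hs => h.zc hs.1
    have ve : v * e = e * v := by
      obtain ⟨g, -, h1, h2⟩ := hfu.extremal h.sylS zS' (R := zpowers w)
        (h.sylS.pgrp.to_le (zpowers_le.2 wS)) (zpowers_le.2 wS.2)
        (fun s hs => cae s (zpowers_le.2 wa hs))
      have h3 := h2 (conj_mem_cj g (mem_zpowers w))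
      have e2 : g * w * g⁻¹ * (g * w * g⁻¹) = g * z * g⁻¹ := by rw [← ww]; group
      obtain ⟨y, yd⟩ : ∃ y, y = g * w * g⁻¹ := ⟨_, rfl⟩
      rw [← yd] at h3 e2
      have h4 : y * y = e ∨ y * y = e * z := by
        rcases inS _ (mul_mem h3 h3) (e2 ▸ cj_sq h.zz) with h4 | h4 | h4
        · exact absurd (conj_eq_one_iff.1 (e2 ▸ h4)) h.z1
        · exact absurd (mul_left_cancel (mul_right_cancel (h1.trans (h4.symm.trans e2)))) ez
        · exact h4
      have h5 : y ∉ zpowers x ⊔ E := fun h5 => by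
        have := (sqo y h3).2 h5
        rcases h4 with h4 | h4 <;> rw [h4] at this
        · exact cu a za this
        · exact cu a za ((mul_mem_cancel_right za).1 this)
      have h6 : y ∈ centralizer {e} := mem_centralizer_singleton_iff.2 (by
        rcases h4 with h4 | h4
        · rw [← h4]; group
        · apply mul_right_cancel (b := z)
          rw [mul_assoc, ← h4, mul_assoc e, zS' y h3, ← mul_assoc e, ← h4]; group)
      have h7 : v * y ∈ centralizer {e} := by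
        rcases XB _ (mul_mem vS h3) (ixX _ vS.1 _ h3.1 vX h5) with h7 | h7
        · exact mem_centralizer_singleton_iff.2 (cae _ h7)
        · exact (mul_mem_cancel_right (mem_centralizer_singleton_iff.2 rfl)).1
            (mem_centralizer_singleton_iff.2 (cae _ h7))
      exact mem_centralizer_singleton_iff.1 ((mul_mem_cancel_right h6).1 h7)
    have eS' : ∀ s ∈ T ⊓ A, s * e = e * s := fun s hs => mem_centralizer_singleton_iff.1
      (sup_le (zpowers_le.2 (mem_centralizer_singleton_iff.2 ae))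
        (zpowers_le.2 (mem_centralizer_singleton_iff.2 ve)) (cov' hs))
    obtain ⟨n, -, h1, h2⟩ := hfu.symm.extremal h.sylS eS' h.sylS.pgrp h.sylS.le zS'
    have va : v * a * v⁻¹ * a⁻¹ = 1 := by
      by_contra h3
      obtain ⟨q, hq, q2⟩ := exists_involution_of_isPGroup (H := zpowers (v * a * v⁻¹ * a⁻¹))
        (h.sylS.pgrp.to_le (zpowers_le.2 (zpowers_le.2 aS (cm v vS a aS)))) (by simpa using h3)
      have h4 : q = z := (cyc_uniq (zpowers_le.2 (cm v vS a aS) hq) za (mul_self_of_orderOf_two q2)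
        h.zz h.z1).resolve_left (ne_one_of_orderOf_two q2)
      obtain ⟨i, hi⟩ := hq
      have h5 := zpow_mem (cm _ (h2 (conj_mem_cj n vS)) _ (h2 (conj_mem_cj n aS))) i
      have e2 : n * v * n⁻¹ * (n * a * n⁻¹) * (n * v * n⁻¹)⁻¹ * (n * a * n⁻¹)⁻¹ =
          n * (v * a * v⁻¹ * a⁻¹) * n⁻¹ := by group
      beta_reduce at hi
      rw [e2, conj_zpow, hi, h4, h1] at h5
      exact cu a za h5
    have xe : e * (x⁻¹ * e * x⁻¹⁻¹) = z := (eg _ (inv_mem xT)).resolve_left fun h3 => by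
      have h4 : x⁻¹ * e * x⁻¹⁻¹ = e := mul_left_cancel (h3.trans ee.symm)
      have h5 : t * e * t⁻¹ = e := by
        calc t * e * t⁻¹ = x⁻¹ * (v * e * v⁻¹) * x⁻¹⁻¹ := by rw [vd]; group
          _ = e := by rw [ve, mul_inv_cancel_right, h4]
      exact h.z1 (by simpa using te.symm.trans h5)
    rw [mul_inv_eq_one] at va
    rw [va, xe, eq_mul_inv_iff_mul_eq] at vav'
    have aa : a * a = z := by
      have h3 : c * c = 1 ∨ c * c = z :=
        cyc_uniq (mul_mem ca ca) za (p4 w ww c hf) h.zz h.z1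
      rcases h3 with h3 | h3 <;> rw [h3] at vav'
      · rw [vav', one_mul]
      · rw [h.zz] at vav'
        rw [wd, ← pow_add, ← two_mul, pow_mul, sq, vav', one_pow] at ww
        exact absurd ww.symm h.z1
    have cc : c * c = 1 := by
      rw [aa] at vav'
      simpa using vav'
    refine z44 h.perf h.sylS aS vS ?_ ?_ ?_ ?_ (mul_inv_eq_iff_eq_mul.1 va).symm cov'
    · rw [show a ^ 4 = a * a * (a * a) by simp [pow_succ, mul_assoc], aa, h.zz]
    · rw [show v ^ 4 = v * v * (v * v) by simp [pow_succ, mul_assoc], fd, sqe c (cae c ca), cc]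
    · rw [sq, aa]; exact h.z1
    · rw [sq]; exact fa

end two

theorem uqS : Uq (T ⊓ A) := by
  by_contra hq
  by_cases hE : ∃ E : Subgroup G, T ≤ 𝐍[E] ∧ E ≤ T ⊓ A ∧ IsKleinFour E
  · obtain ⟨E, hn, hE, hK⟩ := hE
    obtain ⟨x, hx, y, hy, hx1, hy1, hxy⟩ := Klein.exists_pair hK
    by_cases e : x = z
    · exact h.caseII hK hE hn hy hy1 fun e' => hxy (e.trans e'.symm)
    · exact h.caseII hK hE hn hx hx1 e
  · obtain ⟨r, w, z', c, s, hs, hs2, hsC⟩ := exists_cy h.syl.pgrp inf_le_left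
      (le_normalizer_inf le_normalizer (h.syl.le.trans h.nA))
      (fun E h1 h2 h3 => hE ⟨E, h1, h2, h3⟩) hq
    obtain rfl : z' = z := (h.inv_eq (c.CS c.zC) (mul_inv_eq_iff_eq_mul.2 (c.zc h.tT))
      c.zz).resolve_left c.z1
    rcases c.wc h.tT with h1 | h1
    · exact h.caseIa c hs hs2 hsC h1
    · exact h.caseIb c hs hs2 hsC h1

end St4

end Cfsg.Agent.Inv.CZ4
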