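import Mathlib
import Cfsg.Agent.Inv.CTI
import Cfsg.Agent.Inv.ZStarCor
import Cfsg.Agent.Bender.TIChar
import Cfsg.Agent.Char.Burnside
import Cfsg.Agent.FGS.PrimePart
import Cfsg.Agent.Grp.CoprimeIndex
import Cfsg.Agent.Transfer.PCompl

/-! Groups with few conjugacy class sizes (Ito). -/

set_option autoImplicit false

namespace Cfsg.Agent.Inv.ClsIdx

open Cfsg Cfsg.Agent.FT Cfsg.Agent.CIT Cfsg.Agent.Inv.CCInv Cfsg.Agent.Inv.CTI Subgroup
open scoped Pointwise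

variable {G : Type*} [Group G]

theorem cent_le_pow (x : G) (n : ℕ) : 𝒞[x] ≤ 𝒞[x ^ n] := fun _ h =>
  mem_cent1_iff.2 (Commute.pow_right (mem_cent1_iff.1 h) n)

theorem cent_le_of_mem_zpowers {x y : G} (h : y ∈ zpowers x) : 𝒞[x] ≤ 𝒞[y] := fun _ hg => by
  obtain ⟨n, rfl⟩ := h
  exact mem_cent1_iff.2 (Commute.zpow_right (mem_cent1_iff.1 hg) n)

theorem mem_cent_comm {x y : G} (h : x ∈ 𝒞[y]) : y ∈ 𝒞[x] :=
  mem_cent1_iff.2 (mem_cent1_iff.1 h).symm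

theorem conj_mem_cent {x y : G} (h : x ∈ 𝒞[y]) (g : G) : g * x * g⁻¹ ∈ 𝒞[g * y * g⁻¹] :=
  mem_cent1_iff.2 (by
    calc g * x * g⁻¹ * (g * y * g⁻¹) = g * (x * y) * g⁻¹ := by group
      _ = _ := by rw [mem_cent1_iff.1 h]; group)

theorem not_Sz (h : ∀ t : G, orderOf t = 2 → ∀ a ∈ 𝒞[t], ∀ b ∈ 𝒞[t], a * b = b * a) :
    ¬ Lie.IsoSuzuki G := by
  rintro ⟨F, _, _, m, hm, hF, ⟨e⟩⟩
  have := Chev.SzField.of_fintype hm hF
  set f := (Chev.Suz.lieEquiv F).trans e.symm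
  obtain ⟨a, ha0, ha1⟩ := Chev.Suz.exists_ne_zero_one F
  have hc : ∀ c : F, f (Chev.Suz.uu c 0) ∈ 𝒞[f (Chev.Suz.uu 0 1)] := fun c => mem_cent1_iff.2 (by
    rw [← map_mul, ← map_mul]
    simp [Chev.Suz.uu_mul])
  have h2 := h (f (Chev.Suz.uu 0 1)) (by
    rw [MulEquiv.orderOf_eq]
    refine orderOf_two_of_mul_self ?_ (by simp [Chev.Suz.uu_eq_one])
    simp [Chev.Suz.uu_mul, CharTwo.add_self_eq_zero]) _ (hc 1) _ (hc a)
  rw [← map_mul, ← map_mul, f.injective.eq_iff] at h2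
  simp only [Chev.Suz.uu_mul, Chev.Suz.uu_inj, mul_one, zero_add, add_zero, map_one,
    one_mul] at h2
  rcases Chev.Suz.th_eq_self (x := a) (by simpa [eq_comm] using h2.2) with h3 | h3
  · exact ha0 h3
  · exact ha1 h3

variable [Finite G]

theorem eq_of_le_of_index_eq {H K : Subgroup G} (h : H ≤ K) (e : H.index = K.index) : H = K := by
  have h1 := relIndex_mul_index h
  rw [e, mul_eq_right₀ index_ne_zero_of_finite] at h1
  exact le_antisymm h (relIndex_eq_one.1 h1)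

theorem exists_prime_pow {x : G} (hx : x ≠ 1) : ∃ p n : ℕ, p.Prime ∧ orderOf (x ^ n) = p := by
  obtain ⟨q, hq, hd⟩ := Nat.exists_prime_and_dvd (mt orderOf_eq_one_iff.1 hx)
  exact ⟨q, _, hq, orderOf_pow_orderOf_div (orderOf_pos x).ne' hd⟩

omit [Finite G] in
theorem ne_one_of_prime {x : G} {p : ℕ} (hp : p.Prime) (h : orderOf x = p) : x ≠ 1 := fun e =>
  hp.one_lt.ne (by rw [← h, e, orderOf_one])

theorem exists_not_dvd_index {p : ℕ} (hp : p.Prime) (hd : p ∣ Nat.card G) :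
    ∃ z : G, orderOf z = p ∧ ¬ p ∣ (𝒞[z]).index := by
  have := Fact.mk hp
  obtain ⟨P⟩ := (inferInstance : Nonempty (Sylow p G))
  have : Nontrivial (P : Subgroup G) := (nontrivial_iff_ne_bot _).mpr (P.ne_bot_of_dvd_card hd)
  have := P.2.center_nontrivial
  obtain ⟨c, hc⟩ := exists_prime_orderOf_dvd_card' (G := center (P : Subgroup G)) p
    ((P.2.to_subgroup _).card_eq_or_dvd.resolve_left Finite.one_lt_card.ne')
  refine ⟨c, by rwa [orderOf_coe, orderOf_coe], fun h => P.not_dvd_index (h.trans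
    (index_dvd_of_le fun x hx => mem_cent1_iff.2 ?_))⟩
  exact congrArg Subtype.val (mem_center_iff.mp c.2 ⟨x, hx⟩)

omit [Finite G] in
theorem cent_mul {x y : G} (h : x ∈ 𝒞[y]) (hc : (orderOf x).Coprime (orderOf y)) :
    𝒞[x * y] = 𝒞[x] ⊓ 𝒞[y] := FGS.centralizer_mul_of_coprime (mem_cent1_iff.1 h) hc

omit [Finite G] in
theorem mul_ne_one_of_coprime {x y : G} (hy : y ≠ 1) (hc : (orderOf x).Coprime (orderOf y)) :
    x * y ≠ 1 := fun e => by
  rw [eq_inv_of_mul_eq_one_left e, orderOf_inv, Nat.coprime_self] at hc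
  exact hy (orderOf_eq_one_iff.1 hc)

/-- If all non-trivial `2`-elements have the same class size, `2`-subgroups are abelian. -/
theorem two_comm (hE : ∀ u v : G, u ≠ 1 → v ≠ 1 → (∃ k, u ^ 2 ^ k = 1) → (∃ k, v ^ 2 ^ k = 1) →
    (𝒞[u]).index = (𝒞[v]).index) {P : Subgroup G} (hP : IsPGroup 2 P) :
    ∀ a ∈ P, ∀ b ∈ P, a * b = b * a := by
  intro a ha b hb
  by_contra hab
  have h2 : ∀ x ∈ P, ∃ k, x ^ 2 ^ k = 1 := fun x hx =>
    (hP ⟨x, hx⟩).imp fun k hk => congrArg Subtype.val hk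
  have : Nontrivial P := ⟨⟨a, ha⟩, 1, fun e => hab (by
    rw [show a = 1 from congrArg Subtype.val e, mul_one, one_mul])⟩
  have := hP.center_nontrivial
  obtain ⟨c, hc⟩ := exists_prime_orderOf_dvd_card' (G := center P) 2
    ((hP.to_subgroup _).card_eq_or_dvd.resolve_left Finite.one_lt_card.ne')
  set z : G := (c.1 : G)
  have hz : orderOf z = 2 := by rwa [orderOf_coe, orderOf_coe]
  have hzP : z ∈ P := c.1.2
  have hzc : ∀ x ∈ P, x * z = z * x := fun x hx =>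
    congrArg Subtype.val (mem_center_iff.mp c.2 ⟨x, hx⟩)
  have key : ∀ x ∈ P, ∀ y ∈ P, x * y ≠ y * x → x * x = 1 := fun x hx y hy hxy => by
    by_contra h1
    have hx1 : x ≠ 1 := fun e => h1 (by rw [e, mul_one])
    have e2 : (x * z) ^ 2 = x ^ 2 := by
      rw [Commute.mul_pow (hzc x hx), sq_of_orderOf_two hz, mul_one]
    have h1' : x ^ 2 ≠ 1 := by rwa [pow_two]
    have hxz : x * z ≠ 1 := fun e => h1' (by rw [← e2, e, one_pow])
    have e3 := eq_of_le_of_index_eq (cent_le_pow x 2)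
      (hE _ _ hx1 h1' (h2 _ hx) (h2 _ (P.pow_mem hx 2)))
    have e4 := eq_of_le_of_index_eq (cent_le_pow (x * z) 2)
      (hE _ _ hxz (e2 ▸ h1') (h2 _ (P.mul_mem hx hzP)) (h2 _ (P.pow_mem (P.mul_mem hx hzP) 2)))
    rw [e2, ← e3] at e4
    have e5 := eq_of_le_of_index_eq (H := 𝒞[x]) (K := 𝒞[z]) (fun g hg => mem_cent1_iff.2 (by
      have h3 := mem_cent1_iff.1 (e4.ge hg)
      rwa [← mul_assoc, mem_cent1_iff.1 hg, mul_assoc, mul_assoc, mul_right_inj] at h3))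
      (hE _ _ hx1 (ne_one_of_orderOf_two hz) (h2 _ hx) (h2 _ hzP))
    exact hxy (mem_cent1_iff.1 (e5.ge (mem_cent1_iff.2 (hzc y hy)))).symm
  have h3 := key a ha b hb hab
  have h4 := key b hb a ha (Ne.symm hab)
  have h5 := key (a * b) (P.mul_mem ha hb) a ha fun e => hab (by
    rwa [mul_assoc, mul_right_inj, eq_comm] at e)
  refine hab ?_
  rw [← inv_eq_of_mul_eq_one_right h5, mul_inv_rev, inv_eq_of_mul_eq_one_right h3,
    inv_eq_of_mul_eq_one_right h4]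

/-- Abelian `2`-subgroups and central elements of odd order. -/
theorem comm_of_two_comm (h2 : ∀ P : Subgroup G, IsPGroup 2 P → ∀ a ∈ P, ∀ b ∈ P, a * b = b * a)
    {H : Subgroup G} (hO : ∀ w ∈ H, (orderOf w).Coprime 2 → H ≤ 𝒞[w]) :
    ∀ a ∈ H, ∀ b ∈ H, a * b = b * a := by
  intro a ha b hb
  obtain ⟨T⟩ := (inferInstance : Nonempty (Sylow 2 H))
  have hZ : pResidual 2 H ≤ center H := Transfer.pResidual_le_iff.2 fun w hw =>
    mem_center_iff.2 fun g => Subtype.ext (mem_cent1_iff.1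
      (hO w w.2 (by rwa [orderOf_coe]) g.2))
  obtain ⟨n, hn, x, hx, e⟩ := Transfer.exists_pResidual_mul_sylow T ⟨a, ha⟩
  obtain ⟨m, hm, y, hy, e'⟩ := Transfer.exists_pResidual_mul_sylow T ⟨b, hb⟩
  have h3 : Commute x y := Subtype.ext (h2 _ (T.isPGroup'.map H.subtype) _ ⟨x, hx, rfl⟩ _
    ⟨y, hy, rfl⟩)
  have h4 : Commute (n * x) (m * y) := Commute.mul_left (mem_center_iff.1 (hZ hn) _).symm
    (Commute.mul_right (mem_center_iff.1 (hZ hm) _) h3)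
  rw [e, e'] at h4
  exact congrArg Subtype.val h4.eq

theorem exists_inv_pow {u : G} (hu : u ≠ 1) {k : ℕ} (hk : u ^ 2 ^ k = 1) :
    ∃ n, orderOf (u ^ n) = 2 := by
  obtain ⟨j, -, hj⟩ := (Nat.dvd_prime_pow Nat.prime_two).1 (orderOf_dvd_of_pow_eq_one hk)
  exact ⟨_, orderOf_pow_orderOf_div (orderOf_pos u).ne' (hj ▸ dvd_pow_self 2 (by
    rintro rfl
    exact hu (orderOf_eq_one_iff.1 hj)))⟩

/-- If no class size properly divides another one and `F(G) = 1`, then `G ≅ L₂(2ⁿ)`. -/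
theorem isL2Even_of_antichain [Nontrivial G] (hF : fittingSubgroup G = ⊥)
    (h : ∀ x y : G, x ≠ 1 → y ≠ 1 → (𝒞[x]).index ∣ (𝒞[y]).index →
      (𝒞[x]).index = (𝒞[y]).index) : IsL2Even G := by
  have h1 : ∀ x y : G, x ≠ 1 → y ≠ 1 → 𝒞[x] ≤ 𝒞[y] → 𝒞[x] = 𝒞[y] := fun x y hx hy hle =>
    eq_of_le_of_index_eq hle (h y x hy hx (index_dvd_of_le hle)).symm
  have h2 : ∀ x y : G, x ≠ 1 → y ≠ 1 → x ∈ 𝒞[y] → (orderOf x).Coprime (orderOf y) →
      𝒞[x] = 𝒞[y] := fun x y hx hy hxy hc => by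
    have e := cent_mul hxy hc
    have e1 := mul_ne_one_of_coprime hy hc
    rw [← h1 _ x e1 hx (e ▸ inf_le_left), h1 _ y e1 hy (e ▸ inf_le_right)]
  have h3 : ∀ s : G, orderOf s = 2 → IsPGroup 2 𝒞[s] := fun s hs => by
    by_contra hn
    have hs1 := ne_one_of_orderOf_two hs
    obtain ⟨v, hv, hv1, hvo⟩ : ∃ v ∈ 𝒞[s], v ≠ 1 ∧ (orderOf v).Coprime 2 := by
      by_contra hn'
      push Not at hn'
      refine hn fun x => ?_
      obtain ⟨k, hk⟩ := Transfer.exists_pow_coprime_orderOf (p := 2) (x : G)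
      refine ⟨k, Subtype.ext ?_⟩
      by_contra e
      exact hn' _ (pow_mem x.2 _) e hk
    refine hn (IsCC.zass hF (fun x hx hx1 => ?_) hs).2.1
    obtain ⟨k, hk⟩ := Transfer.exists_pow_coprime_orderOf (p := 2) x
    by_cases e : x ^ 2 ^ k = 1
    · have e1 := h2 v s hv1 hs1 hv (hs ▸ hvo)
      rw [← e1] at hx ⊢
      exact (h2 x v hx1 hv1 hx ((hvo.symm.pow_left k).coprime_dvd_left
        (orderOf_dvd_of_pow_eq_one e))).le
    · exact (cent_le_pow x _).trans (h2 _ s e hs1 (pow_mem hx _) (hs ▸ hk)).le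
  obtain ⟨t, ht⟩ := exists_involution_of_not_solvable (G := G) fun hs => Grp.fitting_ne_bot G hF
  obtain ⟨z, hz, hz2⟩ := exists_not_dvd_index Nat.prime_two (ht ▸ orderOf_dvd_natCard t)
  have h4 : ∀ u : G, u ≠ 1 → (∃ k, u ^ 2 ^ k = 1) → (𝒞[u]).index = (𝒞[z]).index := by
    rintro u hu ⟨k, hk⟩
    obtain ⟨n, hn⟩ := exists_inv_pow hu hk
    rw [h1 _ _ hu (ne_one_of_orderOf_two hn) (cent_le_pow u n)]
    refine (h _ _ (ne_one_of_orderOf_two hz) (ne_one_of_orderOf_two hn) ?_).symm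
    obtain ⟨j, hj⟩ := IsPGroup.iff_card.1 (h3 _ hn)
    refine (Nat.Coprime.pow_right j (Nat.coprime_two_right.2 (Nat.odd_iff.2
      (Nat.two_dvd_ne_zero.1 hz2)))).dvd_of_dvd_mul_left ?_
    rw [← hj, card_mul_index]
    exact index_dvd_card _
  have h5 : ∀ s : G, orderOf s = 2 → ∀ a ∈ 𝒞[s], ∀ b ∈ 𝒞[s], a * b = b * a := fun s hs =>
    two_comm (fun u v hu hv h1 h2 => (h4 u hu h1).trans (h4 v hv h2).symm) (h3 s hs)
  refine (IsCC.zass hF (fun x hx hx1 => ?_) ht).2.2.resolve_right (not_Sz h5)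
  exact (h1 _ _ (ne_one_of_orderOf_two ht) hx1 fun a ha => mem_cent1_iff.2 (h5 t ht a ha x hx)).ge

section Simple
variable [IsSimpleGroup G]

omit [Finite G] in
theorem eq_top_of_conj_mem {H : Subgroup G} {x : G} (hx : x ≠ 1) (h : ∀ g, g * x * g⁻¹ ∈ H) :
    H = ⊤ :=
  eq_top_iff.2 (((normalCore_normal H).eq_bot_or_eq_top.resolve_left fun e =>
    hx (mem_bot.1 (e ▸ (h : x ∈ H.normalCore)))).ge.trans (normalCore_le H))

omit [Finite G] in
theorem cent_ne_top (hG : ¬ IsMulCommutative G) {x : G} (hx : x ≠ 1) : 𝒞[x] ≠ ⊤ := fun e =>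
  hG (center_eq_top_iff.1 ((inferInstance : (center G).Normal).eq_bot_or_eq_top.resolve_left
    fun e' => hx (mem_bot.1 (e' ▸ mem_center_iff.2 fun _ => mem_cent1_iff.1 (e.ge trivial)))))

theorem fitting_eq_bot (hG : ¬ IsMulCommutative G) : fittingSubgroup G = ⊥ :=
  (Grp.fitting_normal G).eq_bot_or_eq_top.resolve_right fun h0 => by
    have := Grp.fitting_eq_top_iff.1 h0
    exact hG ⟨⟨IsSimpleGroup.comm_iff_isSolvable.2 inferInstance⟩⟩

theorem index_ne_pow (hG : ¬ IsMulCommutative G) {x : G} (hx : x ≠ 1) {p k : ℕ} (hp : p.Prime) :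
    (𝒞[x]).index ≠ p ^ k := fun e => by
  have := Fact.mk (Char.prime_card_of_class_prime_pow hp x hx e)
  have := isCyclic_of_prime_card (p := Nat.card G) (α := G) rfl
  exact hG inferInstance

theorem not_comm_of_coprime (hG : ¬ IsMulCommutative G) {x y : G} (hx : x ≠ 1) (hy : y ≠ 1)
    (h : (𝒞[x]).index.Coprime (𝒞[y]).index) : y ∉ 𝒞[x] := fun hxy =>
  cent_ne_top hG hx (eq_top_of_conj_mem hy fun g => by
    obtain ⟨a, ha, b, hb, rfl⟩ := Grp.exists_mul_of_coprime_index h g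
    rw [show a * b * y * (a * b)⁻¹ = a * (b * y) * b⁻¹ * a⁻¹ by group, mem_cent1_iff.1 hb,
      ← mul_assoc, mul_inv_cancel_right]
    exact mul_mem (mul_mem ha hxy) (inv_mem ha))

/-- A simple group `G = H C(x)` with an abelian CC-subgroup `H` not of prime power order:
`x` commutes with no other conjugate. -/
theorem isolated_of_cc (hG : ¬ IsMulCommutative G) {x y : G} (hx : x ≠ 1) (hy : y ≠ 1)
    (hcc : IsCC 𝒞[y]) (hab : ∀ a ∈ 𝒞[y], ∀ b ∈ 𝒞[y], a * b = b * a) (hxy : x ∉ 𝒞[y])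
    (hco : (𝒞[y]).index.Coprime (𝒞[x]).index) {p : ℕ} (hyp : y ^ p = 1)
    (hnp : ∃ w ∈ 𝒞[y], w ^ p ≠ 1) {g : G} (hg : g * x * g⁻¹ ∈ 𝒞[x]) : g ∈ 𝒞[x] := by
  set H := 𝒞[y]
  set A := 𝒞[x]
  have hHA : ∀ k ∈ H, k ∈ A → k = 1 := fun k hk hk' => by
    by_contra h1
    exact hxy (hcc k hk h1 (mem_cent_comm hk'))
  have hst : ∀ k : G, k • ((1 : G) : G ⧸ A) = (1 : G) ↔ k ∈ A := fun k => by
    rw [MulAction.Quotient.smul_mk, smul_eq_mul, mul_one, eq_comm, QuotientGroup.eq, inv_one,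
      one_mul]
  have hreg : ∀ l : G ⧸ A, ∃ k ∈ H, k • ((1 : G) : G ⧸ A) = l := fun l => by
    obtain ⟨c, rfl⟩ := QuotientGroup.mk_surjective l
    obtain ⟨a, ha, b, hb, rfl⟩ := Grp.exists_mul_of_coprime_index hco c
    refine ⟨a, ha, ?_⟩
    rw [MulAction.Quotient.smul_mk, smul_eq_mul, mul_one, QuotientGroup.eq, inv_mul_cancel_left]
    exact hb
  rcases Bender.ti_dichotomy (K := H) (Y := 𝒩(H)) (K₁ := H) (l₀ := ((1 : G) : G ⧸ A))
    le_normalizer le_rfl ⟨⟨fun a b => Subtype.ext (hab _ a.2 _ b.2)⟩⟩ hreg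
    (fun k hk e => hHA k hk ((hst k).1 e)) (fun c k hk h1 hc => hcc.mem_normalizer hy hk h1 hc)
    le_rfl (fun N hN hle l => by
      obtain ⟨k, hk, e⟩ := hreg l
      exact ⟨k, hle hk, e⟩) (fun v hv h1 e z hz => by
      let f : H → H := fun k => ⟨(k : G)⁻¹ * (v * k * v⁻¹),
        H.mul_mem (H.inv_mem k.2) ((mem_normalizer_iff.1 hv k).1 k.2)⟩
      have hf : Function.Injective f := fun a b e' => by
        have e1 : (a : G)⁻¹ * (v * a * v⁻¹) = (b : G)⁻¹ * (v * b * v⁻¹) := congrArg Subtype.val e'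
        by_contra hne
        refine h1 (hHA v (hcc (b * a⁻¹) (H.mul_mem b.2 (H.inv_mem a.2))
          (fun e2 => hne (Subtype.ext (mul_inv_eq_one.1 e2).symm)) (mem_cent1_iff.2 ?_))
          ((hst v).1 e))
        calc v * (b * (a : G)⁻¹) = b * ((b : G)⁻¹ * (v * b * v⁻¹)) * v * (a : G)⁻¹ := by group
          _ = b * ((a : G)⁻¹ * (v * a * v⁻¹)) * v * (a : G)⁻¹ := by rw [e1]
          _ = b * (a : G)⁻¹ * v := by group
      obtain ⟨k, hk⟩ := Finite.injective_iff_surjective.1 hf ⟨z, hz⟩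
      exact ⟨k, k.2, (congrArg Subtype.val hk).symm⟩) with h2 | h2
  · by_contra hn
    refine cent_ne_top hG hx (eq_top_of_conj_mem hx fun c => ?_)
    by_cases hc : c ∈ A
    · exact mul_mem (mul_mem hc (mem_cent1_self x)) (inv_mem hc)
    obtain ⟨a, ha, e⟩ := h2 (g : G ⧸ A) (c : G ⧸ A)
      (fun e => hn (by simpa using QuotientGroup.eq.1 e.symm))
      (fun e => hc (by simpa using QuotientGroup.eq.1 e.symm))
    rw [MulAction.Quotient.smul_mk, smul_eq_mul, QuotientGroup.eq] at e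
    have ha' := (hst a).1 ha
    have e1 := mem_cent1_iff.1 e
    rw [show c * x * c⁻¹ = a * g * ((a * g)⁻¹ * c * x) * c⁻¹ by group, e1,
      show a * g * (x * ((a * g)⁻¹ * c)) * c⁻¹ = a * (g * x * g⁻¹) * a⁻¹ by group]
    exact mul_mem (mul_mem ha' hg) (inv_mem ha')
  exfalso
  let B : Set (G ⧸ A) := {l | ∃ k ∈ H, k ^ p = 1 ∧ k • ((1 : G) : G ⧸ A) = l}
  have hB : ∀ c : G, (∀ l ∈ B, c • l ∈ B) → c ∈ MulAction.stabilizer G B := fun c hc =>
    (MulAction.mem_stabilizer_set' (Set.toFinite B)).2 hc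
  have hAB : A ≤ MulAction.stabilizer G B := fun a ha => hB a (by
    rintro _ ⟨k, hk, hkp, rfl⟩
    obtain ⟨v, hv, e, e'⟩ := h2 a ((hst a).2 ha) (k • ((1 : G) : G ⧸ A))
    refine ⟨v * k * v⁻¹, (mem_normalizer_iff.1 hv k).1 hk, by rw [conj_pow, hkp]; group, ?_⟩
    rw [e', mul_smul, mul_smul, inv_smul_eq_iff.2 e.symm])
  have hyB : y ∈ MulAction.stabilizer G B := hB y (by
    rintro _ ⟨k, hk, hkp, rfl⟩
    exact ⟨y * k, H.mul_mem (mem_cent1_self y) hk, by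
      rw [Commute.mul_pow (mem_cent1_iff.1 hk).symm, hyp, hkp, mul_one], mul_smul _ _ _⟩)
  have h3 := eq_top_of_conj_mem (H := MulAction.stabilizer G B) hy fun c => by
    obtain ⟨a, ha, b, hb, rfl⟩ := Grp.exists_mul_of_coprime_index hco.symm c
    rw [show a * b * y * (a * b)⁻¹ = a * (b * y) * b⁻¹ * a⁻¹ by group, mem_cent1_iff.1 hb,
      ← mul_assoc, mul_inv_cancel_right]
    exact mul_mem (mul_mem (hAB ha) hyB) (inv_mem (hAB ha))
  obtain ⟨w, hw, hwp⟩ := hnp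
  have h4 : w • ((1 : G) : G ⧸ A) ∈ w • B := Set.smul_mem_smul_set ⟨1, H.one_mem, one_pow p,
    one_smul _ _⟩
  rw [(h3.ge (mem_top w) : w • B = B)] at h4
  obtain ⟨k, hk, hkp, e⟩ := h4
  rw [← inv_smul_eq_iff, ← mul_smul, hst] at e
  rw [inv_mul_eq_one.1 (hHA _ (H.mul_mem (H.inv_mem hw) hk) e)] at hwp
  exact hwp hkp

/-- A simple group with at most three non-trivial class sizes: none properly divides another. -/
theorem false_of_dvd (hG : ¬ IsMulCommutative G) {α β γ : ℕ}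
    (h3 : ∀ z : G, z ≠ 1 → (𝒞[z]).index = α ∨ (𝒞[z]).index = β ∨ (𝒞[z]).index = γ)
    (hd : α ∣ γ) (hne : α ≠ γ) {x₀ : G} (hx₀ : x₀ ≠ 1) (hα : (𝒞[x₀]).index = α)
    {w₀ : G} (hw₀ : w₀ ≠ 1) (hγ₀ : (𝒞[w₀]).index = γ) : False := by
  have h1 : ∀ z : G, z ≠ 1 → (𝒞[z]).index ≠ 1 := fun z hz e =>
    cent_ne_top hG hz (index_eq_one.1 e)
  have hα1 : α ≠ 1 := hα ▸ h1 x₀ hx₀
  have hB : ∀ p : ℕ, p.Prime → p ∣ α → ∃ y : G, orderOf y = p ∧ (𝒞[y]).index = β ∧ ¬ p ∣ β :=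
    fun p hp h => by
      obtain ⟨y, hy, hy'⟩ := exists_not_dvd_index hp (h.trans (hα ▸ index_dvd_card _))
      rcases h3 y (ne_one_of_prime hp hy) with e | e | e
      · exact absurd (e ▸ h) hy'
      · exact ⟨y, hy, e, e ▸ hy'⟩
      · exact absurd (e ▸ h.trans hd) hy'
  have hco : α.Coprime β := Nat.coprime_of_dvd fun p hp h => (hB p hp h).choose_spec.2.2
  obtain ⟨p, hp, hpα⟩ := Nat.exists_prime_and_dvd hα1
  obtain ⟨y, hyp, hy, hpβ⟩ := hB p hp hpα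
  have hy1 := ne_one_of_prime hp hyp
  have hβ1 : β ≠ 1 := hy ▸ h1 y hy1
  have hαβ : ¬ α ∣ β := fun h => hα1 (hco.eq_one_of_dvd h)
  have hβα : ¬ β ∣ α := fun h => hβ1 (hco.symm.eq_one_of_dvd h)
  have hγα : ¬ γ ∣ α := fun h => hne (Nat.dvd_antisymm hd h)
  have hγ : ∀ z : G, z ≠ 1 → γ ∣ (𝒞[z]).index → (𝒞[z]).index = γ := fun z hz h => by
    rcases h3 z hz with e | e | e
    · exact absurd (e ▸ h) hγα
    · exact absurd (hd.trans (e ▸ h)) hαβ
    · exact e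
  have hAB : ∀ x y : G, x ≠ 1 → y ≠ 1 → (𝒞[x]).index = α → (𝒞[y]).index = β → y ∉ 𝒞[x] :=
    fun x y hx hy e e' => not_comm_of_coprime hG hx hy (e ▸ e' ▸ hco)
  have hC : ∀ w x : G, w ≠ 1 → (𝒞[w]).index = γ → x ∈ 𝒞[w] → (orderOf x).Coprime (orderOf w) →
      𝒞[w] ≤ 𝒞[x] := fun w x hw e hx hc => by
    have e1 := cent_mul hx hc
    have e2 : 𝒞[x * w] ≤ 𝒞[w] := e1 ▸ inf_le_right
    rw [← eq_of_le_of_index_eq e2 ((hγ _ (mul_ne_one_of_coprime hw hc)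
      (e ▸ index_dvd_of_le e2)).trans e.symm), e1]
    exact inf_le_left
  by_cases hβγ : β ∣ γ
  · obtain ⟨q, hq, hqβ⟩ := Nat.exists_prime_and_dvd hβ1
    obtain ⟨x, hxq, hx'⟩ := exists_not_dvd_index hq (hqβ.trans (hy ▸ index_dvd_card _))
    have hx1 := ne_one_of_prime hq hxq
    have hx : (𝒞[x]).index = α := by
      rcases h3 x hx1 with e | e | e
      · exact e
      · exact absurd (e ▸ hqβ) hx'
      · exact absurd (e ▸ hqβ.trans hβγ) hx'
    have h4 : 𝒞[x] ⊓ 𝒞[y] ≠ ⊥ := fun e => by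
      have h5 : (𝒞[x] ⊓ 𝒞[y]).index ≤ _ := index_inf_le
      rw [e, index_bot, hx, hy] at h5
      have h6 := Nat.le_of_dvd (hγ₀ ▸ Nat.pos_of_ne_zero index_ne_zero_of_finite)
        (hco.mul_dvd_of_dvd_of_dvd hd hβγ)
      have h7 := eq_of_le_of_index_eq (bot_le : ⊥ ≤ 𝒞[w₀]) (le_antisymm
        (by rw [index_bot, hγ₀]; omega) (Nat.le_of_dvd
          (Nat.pos_of_ne_zero index_ne_zero_of_finite) (index_dvd_of_le bot_le)))
      exact hw₀ (mem_bot.1 (h7.ge (mem_cent1_self w₀)))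
    obtain ⟨⟨v, hv⟩, hv1⟩ := ne_bot_iff_exists_ne_one.1 h4
    obtain ⟨r, n, hr, hn⟩ := exists_prime_pow (x := v) fun e => hv1 (Subtype.ext e)
    have hw1 := ne_one_of_prime hr hn
    have hwx : v ^ n ∈ 𝒞[x] := pow_mem hv.1 n
    have hwy : v ^ n ∈ 𝒞[y] := pow_mem hv.2 n
    have hw : (𝒞[v ^ n]).index = γ := by
      rcases h3 _ hw1 with e | e | e
      · exact absurd (mem_cent_comm hwy) (hAB _ y hw1 hy1 e hy)
      · exact absurd hwx (hAB x _ hx1 hw1 hx e)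
      · exact e
    by_cases hrq : q = r
    · refine hAB x y hx1 hy1 hx hy (mem_cent_comm (hC _ y hw1 hw (mem_cent_comm hwy) ?_
        (mem_cent_comm hwx)))
      rw [hyp, hn, Nat.coprime_primes hp hr]
      rintro rfl
      exact hpβ (hrq ▸ hqβ)
    · refine hAB x y hx1 hy1 hx hy (hC _ x hw1 hw (mem_cent_comm hwx) ?_ (mem_cent_comm hwy))
      rwa [hxq, hn, Nat.coprime_primes hq hr]
  have hβ : ∀ z : G, z ≠ 1 → β ∣ (𝒞[z]).index → (𝒞[z]).index = β := fun z hz h => by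
    rcases h3 z hz with e | e | e
    · exact absurd (e ▸ h) hβα
    · exact e
    · exact absurd (e ▸ h) hβγ
  have hβ' : ∀ z : G, z ≠ 1 → (𝒞[z]).index ∣ β → (𝒞[z]).index = β := fun z hz h => by
    rcases h3 z hz with e | e | e
    · exact absurd (e ▸ h) hαβ
    · exact e
    · exact absurd (hd.trans (e ▸ h)) hαβ
  have hB1 : ∀ y w : G, y ≠ 1 → (𝒞[y]).index = β → w ∈ 𝒞[y] →
      (orderOf w).Coprime (orderOf y) → 𝒞[y] ≤ 𝒞[w] := fun y w hy e hw hc => by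
    have e1 := cent_mul hw hc
    have e2 : 𝒞[w * y] ≤ 𝒞[y] := e1 ▸ inf_le_right
    rw [← eq_of_le_of_index_eq e2 ((hβ _ (mul_ne_one_of_coprime hy hc)
      (e ▸ index_dvd_of_le e2)).trans e.symm), e1]
    exact inf_le_left
  have hB2 : ∀ y w : G, w ≠ 1 → (𝒞[y]).index = β → 𝒞[y] ≤ 𝒞[w] → 𝒞[y] = 𝒞[w] :=
    fun y w hw e h => eq_of_le_of_index_eq h (e.trans (hβ' w hw (e ▸ index_dvd_of_le h)).symm)
  have hB3 : ∀ (y : G) (p : ℕ), p.Prime → (𝒞[y]).index = β → ¬ IsPGroup p 𝒞[y] :=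
    fun y p hp e h => by
      have := Fact.mk hp
      obtain ⟨j, hj⟩ := IsPGroup.iff_card.1 h
      obtain ⟨i, -, hi⟩ := (Nat.dvd_prime_pow hp).1 (hj ▸ hco.dvd_of_dvd_mul_right
        (by rw [← e, card_mul_index, ← hα]; exact index_dvd_card _) : α ∣ p ^ j)
      exact index_ne_pow hG hx₀ hp (hα.trans hi)
  have hB4 : ∀ (y : G) (p : ℕ), p.Prime → orderOf y = p → (𝒞[y]).index = β →
      ∀ a ∈ 𝒞[y], 𝒞[y] ≤ 𝒞[a] := fun y p hp hyp e a ha => by
    have := Fact.mk hp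
    have hy1 := ne_one_of_prime hp hyp
    obtain ⟨w, hw, hw1, hwc⟩ : ∃ w ∈ 𝒞[y], w ≠ 1 ∧ (orderOf w).Coprime p := by
      by_contra hn'
      push Not at hn'
      refine hB3 y p hp e fun x => ?_
      obtain ⟨k, hk⟩ := Transfer.exists_pow_coprime_orderOf (p := p) (x : G)
      refine ⟨k, Subtype.ext ?_⟩
      by_contra e
      exact hn' _ (pow_mem x.2 _) e hk
    have e1 := hB2 y w hw1 e (hB1 y w hy1 e hw (hyp ▸ hwc))
    obtain ⟨u, v, hu, hv, ⟨k, hk⟩, hvc, rfl⟩ := Transfer.exists_pPart_mul (p := p) a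
    have h4 := hB1 y v hy1 e (zpowers_le.2 ha hv) (hyp ▸ hvc)
    have h5 := hB1 w u hw1 (e1 ▸ e) (e1 ▸ zpowers_le.2 ha hu)
      ((hwc.symm.pow_left k).coprime_dvd_left (orderOf_dvd_of_pow_eq_one hk))
    exact fun g hg => mem_cent1_iff.2 (Commute.mul_right (mem_cent1_iff.1 (h5 (e1 ▸ hg)))
      (mem_cent1_iff.1 (h4 hg)))
  have hB5 : ∀ (y : G) (p : ℕ), p.Prime → orderOf y = p → (𝒞[y]).index = β → IsCC 𝒞[y] :=
    fun y p hp hyp e a ha h1 => (hB2 y a h1 e (hB4 y p hp hyp e a ha)).ge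
  have hiso : ∀ x : G, x ≠ 1 → (𝒞[x]).index = α → ∀ g : G, g * x * g⁻¹ ∈ 𝒞[x] → g ∈ 𝒞[x] :=
    fun x hx e g hg => isolated_of_cc hG hx hy1 (hB5 y p hp hyp hy)
      (fun a ha b hb => mem_cent1_iff.1 (hB4 y p hp hyp hy b hb ha))
      (fun h => hAB x y hx hy1 e hy (mem_cent_comm h)) (e ▸ hy ▸ hco.symm)
      (hyp ▸ pow_orderOf_eq_one y) (by
        by_contra hn
        push Not at hn
        exact hB3 y p hp hy fun a => ⟨1, Subtype.ext (by simpa using hn a a.2)⟩) hg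
  have hni : ∀ s : G, orderOf s = 2 → ∃ g : G, g * s * g⁻¹ ∈ 𝒞[s] ∧ g ∉ 𝒞[s] := fun s hs => by
    by_contra hn
    push Not at hn
    exact hG ⟨⟨ZStar.comm_of_simple_of_isolated ⟨hs, fun g hg => by
      rw [mem_cent1_iff.1 (hn g (mem_cent1_iff.2 hg.symm)), mul_inv_cancel_right]⟩⟩⟩
  have hI : ∀ s : G, orderOf s = 2 → (𝒞[s]).index = γ := fun s hs => by
    rcases h3 s (ne_one_of_orderOf_two hs) with e | e | e
    · obtain ⟨g, hg, hg'⟩ := hni s hs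
      exact absurd (hiso s (ne_one_of_orderOf_two hs) e g hg) hg'
    · exact absurd (IsCC.zass (fitting_eq_bot hG) (hB5 s 2 Nat.prime_two hs e) hs).2.1
        (hB3 s 2 Nat.prime_two e)
    · exact e
  have hI2 : ∀ s : G, orderOf s = 2 → ∀ a ∈ 𝒞[s], ∀ b ∈ 𝒞[s], a * b = b * a := fun s hs => by
    have h4 : ∀ u : G, u ≠ 1 → (∃ k, u ^ 2 ^ k = 1) → (𝒞[u]).index = γ := by
      rintro u hu ⟨k, hk⟩
      obtain ⟨n, hn⟩ := exists_inv_pow hu hk
      exact hγ u hu (hI _ hn ▸ index_dvd_of_le (cent_le_pow u n))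
    exact comm_of_two_comm (fun P hP => two_comm
      (fun u v hu hv h1 h2 => (h4 u hu h1).trans (h4 v hv h2).symm) hP)
      fun w hw hc => hC s w (ne_one_of_orderOf_two hs) (hI s hs) hw (hs ▸ hc)
  have hI3 : ∀ s a : G, orderOf s = 2 → s ∈ 𝒞[a] → 𝒞[s] ≤ 𝒞[a] := fun s a hs h b hb =>
    mem_cent1_iff.2 (hI2 s hs b hb a (mem_cent_comm h))
  obtain ⟨t₀, ht₀⟩ := exists_involution_of_not_solvable (G := G)
    fun hs => Grp.fitting_ne_bot G (fitting_eq_bot hG)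
  have h2G : 2 ∣ Nat.card G := ht₀ ▸ orderOf_dvd_natCard t₀
  have hinv : ∀ a : G, (𝒞[a]).index ∣ γ → ∃ s ∈ 𝒞[a], orderOf s = 2 := fun a ha => by
    obtain ⟨z, hz, hz2⟩ := exists_not_dvd_index Nat.prime_two h2G
    rw [← card_mul_index 𝒞[a]] at h2G
    exact exists_involution_of_even (even_iff_two_dvd.2 ((Nat.prime_two.dvd_mul.1 h2G).resolve_right
      fun h => hz2 (hI z hz ▸ h.trans ha)))
  obtain ⟨s, hsA, hs⟩ := hinv x₀ (hα ▸ hd)
  obtain ⟨g, hg, hg'⟩ := hni s hs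
  set u := g * s * g⁻¹ with hu_def
  have hu : orderOf u = 2 := by rw [hu_def, orderOf_conj, hs]
  have huA := hI3 s x₀ hs hsA hg
  obtain ⟨t, ht, htA⟩ : ∃ t : G, orderOf t = 2 ∧ t ∉ 𝒞[x₀] := by
    by_contra hn
    push Not at hn
    exact cent_ne_top hG hx₀ (eq_top_of_conj_mem (ne_one_of_orderOf_two hs) fun c =>
      hn _ (by rw [orderOf_conj, hs]))
  have hmem : ∀ v c : G, orderOf v = 2 → v ∈ 𝒞[x₀] → c * v * c⁻¹ ∈ 𝒞[x₀] → c ∈ 𝒞[x₀] :=
    fun v c hv h h' => hiso x₀ hx₀ hα c (hI3 _ x₀ (by rw [orderOf_conj, hv]) h'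
      (conj_mem_cent (mem_cent_comm h) c))
  have ht2 := mul_self_of_orderOf_two ht
  have hs2 := mul_self_of_orderOf_two hs
  set u' := t * u * t⁻¹ with hu'_def
  have hu' : orderOf u' = 2 := by rw [hu'_def, orderOf_conj, hu]
  have hu'2 := mul_self_of_orderOf_two hu'
  have hu'A : u' ∉ 𝒞[x₀] := fun h => htA (hmem u t hu huA h)
  have hodd : Odd (orderOf (u' * s)) := by
    by_contra hn
    obtain ⟨z, -, hz, h4, h5⟩ := exists_central_involution_of_even hu'2 hs2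
      (Nat.not_odd_iff_even.1 hn)
    exact hu'A (hI3 z x₀ hz (hI3 s x₀ hs hsA (mem_cent1_iff.2 h5)) (mem_cent1_iff.2 h4.symm))
  obtain ⟨n, hn⟩ := exists_conj_of_odd_orderOf_mul hu'2 hs2 hodd
  have hc := conj_pow_eq_inv (conj_mul_eq_inv_right hu'2 hs2) n
  set c := (u' * s) ^ n
  have hti := inv_of_orderOf_two ht
  have hsi := inv_of_orderOf_two hs
  set k := t * (c * s) with hk_def
  have hks : k * s * k⁻¹ = u := by
    calc k * s * k⁻¹ = t * (c * s * c⁻¹) * t⁻¹ := by rw [hk_def]; group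
      _ = (t * t) * u * (t * t)⁻¹ := by rw [hn, hu'_def]; group
      _ = u := by rw [ht2]; group
  have hkA := hmem s k hs hsA (hks ▸ huA)
  have hk1 : k ≠ 1 := fun e => hg' (mem_cent1_iff.2 (by
    rw [e, one_mul, inv_one, mul_one] at hks
    rw [← mul_inv_eq_iff_eq_mul, ← hu_def, ← hks]))
  have hkt : t * k * t⁻¹ = k⁻¹ := by
    calc t * k * t⁻¹ = (t * t) * (s⁻¹ * (s * c * s⁻¹)⁻¹⁻¹ * (s * s)) * t⁻¹ := by
          rw [hk_def]; group
      _ = s⁻¹ * c⁻¹ * t⁻¹ := by rw [hc, ht2, hs2]; group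
      _ = _ := by rw [hk_def]; group
  rcases h3 k hk1 with e | e | e
  · have h4 := mem_cent1_iff.1 (hiso k hk1 e t (hkt ▸ inv_mem (mem_cent1_self k)))
    rw [h4, mul_inv_cancel_right] at hkt
    exact hne (e.symm.trans (hI k (orderOf_two_of_mul_self (by
      nth_rewrite 1 [hkt]; exact inv_mul_cancel k) hk1)))
  · exact hAB x₀ k hx₀ hk1 hα e hkA
  · obtain ⟨v, hv, hv2⟩ := hinv k e.dvd
    have e1 := eq_of_le_of_index_eq (hI3 v k hv2 hv) ((hI v hv2).trans e.symm)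
    have h4 : x₀ ∈ 𝒞[k] := mem_cent_comm hkA
    have h5 : t * x₀ * t⁻¹ ∈ 𝒞[k] := mem_cent_comm (by
      have := mem_cent_comm (conj_mem_cent h4 t)
      rwa [hkt, inv_mem_iff] at this)
    exact htA (hiso x₀ hx₀ hα t (mem_cent1_iff.2 (hI2 v hv2 _ (e1 ▸ h5) _ (e1 ▸ h4))))

/-- Ito: a simple group with at most three non-trivial class sizes is `L₂(2ⁿ)`. -/
theorem isL2Even_of_ncard_le (hG : ¬ IsMulCommutative G)
    (h : {m : ℕ | ∃ x : G, x ≠ 1 ∧ m = (𝒞[x]).index}.ncard ≤ 3) : IsL2Even G := by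
  refine isL2Even_of_antichain (fitting_eq_bot hG) fun x y hx hy hd => ?_
  by_contra hne
  set S := {m : ℕ | ∃ x : G, x ≠ 1 ∧ m = (𝒞[x]).index}
  have hS : S.Finite := (Set.finite_range fun x : G => (𝒞[x]).index).subset
    fun _ ⟨x, _, e⟩ => ⟨x, e.symm⟩
  have h1 : (S \ {(𝒞[x]).index, (𝒞[y]).index}).ncard ≤ 1 := by
    rw [Set.ncard_sdiff (by
      rintro _ (rfl | rfl)
      exacts [⟨x, hx, rfl⟩, ⟨y, hy, rfl⟩]), Set.ncard_pair hne]
    omega
  obtain ⟨β, hβ⟩ := (Set.ncard_le_one_iff_subset_singleton (hS.subset Set.sdiff_subset)).1 h1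
  refine false_of_dvd hG (β := β) (fun z hz => ?_) hd hne hx rfl hy rfl
  by_contra hn
  push Not at hn
  exact hn.2.1 (hβ ⟨⟨z, hz, rfl⟩, by simp [hn.1, hn.2.2]⟩)

end Simple

end Cfsg.Agent.Inv.ClsIdx
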